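import Mathlib.FieldTheory.Galois.GaloisClosure
import Mathlib.FieldTheory.Galois.Infinite
import Mathlib.FieldTheory.Galois.Profinite
import Mathlib.RingTheory.IntegralClosure.IntegrallyClosed

/-!
# Points of the integral closure in a Galois extension are conjugate
-/

set_option autoImplicit false

universe u

open Polynomial

namespace Groth.Agent.H91.GeomFlat

variable {A₁ K Ks : Type u} [CommRing A₁] [Field K] [Field Ks] [Algebra A₁ K] [Algebra K Ks]
  [Algebra A₁ Ks] [IsScalarTower A₁ K Ks]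

/-- The action of the Galois group on the integral closure. -/
noncomputable def galMap (σ : Ks ≃ₐ[K] Ks) : integralClosure A₁ Ks ≃ₐ[A₁] integralClosure A₁ Ks :=
  (σ.restrictScalars A₁).mapIntegralClosure

theorem coe_galMap (σ : Ks ≃ₐ[K] Ks) (x : integralClosure A₁ Ks) :
    (galMap σ x : Ks) = σ x := rfl

variable [IsDomain A₁] [IsIntegrallyClosed A₁] [IsFractionRing A₁ K] [IsGalois K Ks]
  {Ω : Type u} [CommRing Ω] [IsDomain Ω]

theorem exists_gal_finset (χ₁ χ₂ : integralClosure A₁ Ks →+* Ω)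
    (h : ∀ a : A₁, χ₁ (algebraMap A₁ _ a) = χ₂ (algebraMap A₁ _ a))
    (s : Finset (integralClosure A₁ Ks)) :
    ∃ σ : Ks ≃ₐ[K] Ks, ∀ b ∈ s, χ₂ b = χ₁ (galMap σ b) := by
  classical
  let R := integralClosure A₁ Ks
  haveI : Finite ((fun b : R => (b : Ks)) '' (s : Set R)) := (s.finite_toSet.image _).to_subtype
  let L := FiniteGaloisIntermediateField.adjoin K ((fun b : R => (b : Ks)) '' (s : Set R))
  have hL : ∀ b ∈ s, (b : Ks) ∈ L.toIntermediateField := fun b hb =>
    FiniteGaloisIntermediateField.subset_adjoin K _ ⟨b, hb, rfl⟩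
  let e := s.equivFin
  let bX : R[X] := ∑ b : s, monomial (e b : ℕ) (b : R)
  have hbX : ∀ (φ : R →+* Ω) (b : s), (bX.map φ).coeff (e b) = φ b := by
    intro φ b
    rw [coeff_map]
    congr 1
    simp only [bX, finset_sum_coeff, coeff_monomial]
    rw [Finset.sum_eq_single b]
    · simp
    · intro c _ hc
      rw [if_neg fun hce => hc (e.injective (Fin.ext hce))]
    · simp
  let G := L.toIntermediateField ≃ₐ[K] L.toIntermediateField
  let ext' : G → (R →+* R) := fun τ => (galMap (A₁ := A₁) (τ.liftNormal Ks)).toRingEquiv.toRingHom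
  let P : R[X][X] := ∏ τ : G, (X - C (bX.map (ext' τ)))
  -- the coefficients are invariant
  have hinv : ∀ g : Ks ≃ₐ[K] Ks, P.map (mapRingHom (galMap (A₁ := A₁) g).toRingEquiv.toRingHom) = P := by
    intro g
    let gL : G := g.restrictNormal L.toIntermediateField
    have hg : ∀ τ : G, (bX.map (ext' τ)).map (galMap (A₁ := A₁) g).toRingEquiv.toRingHom =
        bX.map (ext' (gL * τ)) := by
      intro τ
      simp only [bX, Polynomial.map_sum, map_monomial]
      refine Finset.sum_congr rfl fun b _ => ?_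
      congr 1
      refine Subtype.ext ?_
      show g (τ.liftNormal Ks (b.1 : Ks)) = (gL * τ).liftNormal Ks (b.1 : Ks)
      have e1 := AlgEquiv.liftNormal_commutes τ Ks ⟨(b.1 : Ks), hL b.1 b.2⟩
      have e2 := AlgEquiv.liftNormal_commutes (gL * τ) Ks ⟨(b.1 : Ks), hL b.1 b.2⟩
      have e3 := AlgEquiv.restrictNormal_commutes g L.toIntermediateField (τ ⟨(b.1 : Ks), hL b.1 b.2⟩)
      exact (congrArg g e1).trans (e3.symm.trans e2.symm)
    simp only [P, Polynomial.map_prod, Polynomial.map_sub, map_X, map_C, coe_mapRingHom, hg]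
    exact Fintype.prod_equiv (Equiv.mulLeft gL) _ _ fun τ => rfl
  have hcoeff : ∀ m i, ∃ a : A₁, algebraMap A₁ R a = (P.coeff m).coeff i := by
    intro m i
    have hfix : ∀ g : Ks ≃ₐ[K] Ks, g ((P.coeff m).coeff i : Ks) = ((P.coeff m).coeff i : Ks) := by
      intro g
      have := congrArg (fun Q : R[X][X] => (((Q.coeff m).coeff i : R) : Ks)) (hinv g)
      simpa [coe_galMap] using this
    obtain ⟨c, hc⟩ := (InfiniteGalois.mem_range_algebraMap_iff_fixed _).2 hfix
    have hci : IsIntegral A₁ c := by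
      refine (isIntegral_algHom_iff (IsScalarTower.toAlgHom A₁ K Ks) (algebraMap K Ks).injective).1 ?_
      show IsIntegral A₁ (algebraMap K Ks c)
      rw [hc]
      exact ((P.coeff m).coeff i).2
    obtain ⟨a, ha⟩ := IsIntegrallyClosed.algebraMap_eq_of_integral hci
    refine ⟨a, Subtype.ext ?_⟩
    show algebraMap A₁ Ks a = _
    rw [IsScalarTower.algebraMap_apply A₁ K Ks, ha, hc]
  have hP : P.map (mapRingHom χ₁) = P.map (mapRingHom χ₂) := by
    refine Polynomial.ext fun m => Polynomial.ext fun i => ?_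
    obtain ⟨a, ha⟩ := hcoeff m i
    simp only [coeff_map, coe_mapRingHom, ← ha]
    exact h a
  have h1 : bX.map (ext' 1) = bX := by
    simp only [bX, Polynomial.map_sum, map_monomial]
    refine Finset.sum_congr rfl fun b _ => ?_
    congr 1
    refine Subtype.ext ?_
    exact AlgEquiv.liftNormal_commutes (1 : G) Ks ⟨(b.1 : Ks), hL b.1 b.2⟩
  have h0 : (P.map (mapRingHom χ₂)).eval (bX.map χ₂) = 0 := by
    simp only [P, Polynomial.map_prod, Polynomial.map_sub, map_X, map_C, coe_mapRingHom, eval_prod,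
      eval_sub, eval_X, eval_C]
    exact Finset.prod_eq_zero (Finset.mem_univ (1 : G)) (by rw [h1, sub_self])
  rw [← hP] at h0
  simp only [P, Polynomial.map_prod, Polynomial.map_sub, map_X, map_C, coe_mapRingHom, eval_prod,
    eval_sub, eval_X, eval_C, Finset.prod_eq_zero_iff, sub_eq_zero] at h0
  obtain ⟨τ, -, hτ⟩ := h0
  refine ⟨τ.liftNormal Ks, fun b hb => ?_⟩
  have := congrArg (fun Q : Ω[X] => Q.coeff (e ⟨b, hb⟩)) hτ
  rw [Polynomial.map_map, hbX, hbX] at this
  exact this

/-- Two points of the integral closure with the same restriction to the base are conjugate. -/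
theorem exists_gal (χ₁ χ₂ : integralClosure A₁ Ks →+* Ω)
    (h : ∀ a : A₁, χ₁ (algebraMap A₁ _ a) = χ₂ (algebraMap A₁ _ a)) :
    ∃ σ : Ks ≃ₐ[K] Ks, ∀ b, χ₂ b = χ₁ (galMap σ b) := by
  let U : integralClosure A₁ Ks → Set (Ks ≃ₐ[K] Ks) := fun b => {σ | χ₂ b = χ₁ (galMap σ b)}
  have hopen : ∀ (b : integralClosure A₁ Ks) (S : Set (integralClosure A₁ Ks)),
      IsOpen {σ : Ks ≃ₐ[K] Ks | galMap (A₁ := A₁) σ b ∈ S} := by
    intro b S
    haveI : FiniteDimensional K (IntermediateField.adjoin K {(b : Ks)}) :=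
      IntermediateField.adjoin.finiteDimensional (Algebra.IsIntegral.isIntegral (b : Ks))
    let H := (IntermediateField.adjoin K {(b : Ks)}).fixingSubgroup
    refine isOpen_iff_forall_mem_open.2 fun σ hσ => ⟨(fun g => σ * g) '' (H : Set (Ks ≃ₐ[K] Ks)), ?_,
      (Homeomorph.mulLeft σ).isOpenMap _ (IntermediateField.fixingSubgroup_isOpen _),
      ⟨1, H.one_mem, mul_one σ⟩⟩
    rintro _ ⟨g, hg, rfl⟩
    have e : galMap (A₁ := A₁) (σ * g) b = galMap σ b := Subtype.ext (congrArg σ
      ((IntermediateField.mem_fixingSubgroup_iff _ g).1 hg _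
        (IntermediateField.mem_adjoin_simple_self K (b : Ks))))
    show galMap (σ * g) b ∈ S
    rw [e]
    exact hσ
  have hclosed : ∀ b, IsClosed (U b) := fun b =>
    isOpen_compl_iff.1 (hopen b {c | χ₂ b ≠ χ₁ c})
  by_contra hne
  push Not at hne
  obtain ⟨t, ht⟩ := isCompact_univ.elim_finite_subfamily_closed U hclosed (by
    rw [Set.eq_empty_iff_forall_notMem]
    rintro σ ⟨-, hσ⟩
    obtain ⟨b, hb⟩ := hne σ
    exact hb (Set.mem_iInter.1 hσ b))
  obtain ⟨σ, hσ⟩ := exists_gal_finset (K := K) χ₁ χ₂ h t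
  exact (Set.eq_empty_iff_forall_notMem.1 ht) σ ⟨trivial, Set.mem_iInter₂.2 hσ⟩

end Groth.Agent.H91.GeomFlat
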