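import Mathlib.FieldTheory.IsSepClosed
import Mathlib.RingTheory.TensorProduct.Basic
import Mathlib.RingTheory.TensorProduct.Free

/-!
# Primary extensions of residue fields at a stage
-/

set_option autoImplicit false

universe u

open TensorProduct Polynomial

namespace Groth.Agent.H91.GeomFlat

variable {F F' k L : Type u} [Field F] [Field F'] [Field k] [Field L] [Algebra F k] [Algebra F F']

/-- A map out of a tensor product of fields generated by a ring with kernel killed is injective. -/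
theorem injective_of_generated (Φ : k ⊗[F] F' →+* L) {T : Type u} [CommRing T]
    (ψ : T →+* k ⊗[F] F') (hk : ∀ a : k, a ⊗ₜ[F] (1 : F') ∈ ψ.range)
    (hF : ∀ b : F', ∃ s : F', s ≠ 0 ∧ (1 : k) ⊗ₜ[F] s ∈ ψ.range ∧ (1 : k) ⊗ₜ[F] (s * b) ∈ ψ.range)
    (hker : ∀ w, Φ (ψ w) = 0 → ψ w = 0) : Function.Injective Φ := by
  have key : ∀ z : k ⊗[F] F', ∃ s : F', s ≠ 0 ∧ (1 : k) ⊗ₜ[F] s ∈ ψ.range ∧
      (1 : k) ⊗ₜ[F] s * z ∈ ψ.range := by
    intro z
    induction z using TensorProduct.induction_on with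
    | zero => exact ⟨1, one_ne_zero, hk 1, by rw [mul_zero]; exact zero_mem _⟩
    | tmul a b =>
      obtain ⟨s, hs, hs1, hsb⟩ := hF b
      refine ⟨s, hs, hs1, ?_⟩
      have e : (1 : k) ⊗ₜ[F] s * a ⊗ₜ[F] b = a ⊗ₜ[F] (1 : F') * (1 : k) ⊗ₜ[F] (s * b) := by
        simp [Algebra.TensorProduct.tmul_mul_tmul]
      rw [e]
      exact mul_mem (hk a) hsb
    | add x y hx hy =>
      obtain ⟨s, hs, hs1, hsx⟩ := hx
      obtain ⟨t, ht, ht1, hty⟩ := hy
      refine ⟨s * t, mul_ne_zero hs ht, ?_, ?_⟩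
      · rw [show (1 : k) ⊗ₜ[F] (s * t) = (1 : k) ⊗ₜ[F] s * (1 : k) ⊗ₜ[F] t by
          simp [Algebra.TensorProduct.tmul_mul_tmul]]
        exact mul_mem hs1 ht1
      · rw [show (1 : k) ⊗ₜ[F] (s * t) * (x + y) =
          (1 : k) ⊗ₜ[F] t * ((1 : k) ⊗ₜ[F] s * x) + (1 : k) ⊗ₜ[F] s * ((1 : k) ⊗ₜ[F] t * y) by
          rw [show (1 : k) ⊗ₜ[F] (s * t) = (1 : k) ⊗ₜ[F] s * (1 : k) ⊗ₜ[F] t by
            simp [Algebra.TensorProduct.tmul_mul_tmul]]
          ring]
        exact add_mem (mul_mem ht1 hsx) (mul_mem hs1 hty)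
  rw [injective_iff_map_eq_zero]
  intro z hz
  obtain ⟨s, hs, -, w, hw⟩ := key z
  have h0 := hker w (by rw [hw, map_mul, hz, mul_zero])
  have hu : IsUnit ((1 : k) ⊗ₜ[F] s) :=
    (IsUnit.mk0 s hs).map (Algebra.TensorProduct.includeRight : F' →ₐ[F] k ⊗[F] F')
  exact hu.mul_right_eq_zero.1 (hw.symm.trans h0)

/-- If `k ⊗ F'` embeds in a field and `k` is separably closed, `F'` has no new separable element. -/
theorem mem_range_of_separable [IsSepClosed k] (Φ : k ⊗[F] F' →+* L) (hΦ : Function.Injective Φ)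
    (l : F') (f : F[X]) (hf : f.Separable) (hl : f.eval₂ (algebraMap F F') l = 0) :
    l ∈ (algebraMap F F').range := by
  classical
  let iR : k →+* L := Φ.comp (Algebra.TensorProduct.includeLeft : k →ₐ[F] k ⊗[F] F').toRingHom
  let iF : F' →+* L := Φ.comp (Algebra.TensorProduct.includeRight : F' →ₐ[F] k ⊗[F] F').toRingHom
  have he : iR.comp (algebraMap F k) = iF.comp (algebraMap F F') := RingHom.ext fun c =>
    congrArg Φ (Algebra.TensorProduct.tmul_one_eq_one_tmul c)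
  have hs : (f.map (algebraMap F k)).Splits := IsSepClosed.splits_of_separable _ hf.map
  have h0 : ((f.map (algebraMap F k)).map iR).IsRoot (iF l) := by
    rw [IsRoot.def, Polynomial.map_map, he, Polynomial.eval_map, ← Polynomial.hom_eval₂, hl, map_zero]
  obtain ⟨r, hr⟩ := hs.mem_range_of_isRoot (Polynomial.map_ne_zero hf.ne_zero) h0
  have e : r ⊗ₜ[F] (1 : F') = (1 : k) ⊗ₜ[F] l := hΦ hr
  obtain ⟨φ, hφ⟩ := LinearMap.exists_leftInverse_of_injective (Algebra.linearMap F k)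
    (LinearMap.ker_eq_bot.2 (algebraMap F k).injective)
  refine ⟨φ r, ?_⟩
  have h1 : φ (1 : k) = 1 := by
    simpa using LinearMap.congr_fun hφ 1
  have := congrArg (fun z => TensorProduct.lid F F' (φ.rTensor F' z)) e
  simpa [h1, Algebra.smul_def] using this

end Groth.Agent.H91.GeomFlat
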