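import Groth.Agent.H47.FlatNormal
import Groth.Agent.H91.GeomFlat.Primary

/-!
# Flatness over a strictly local normal domain is detected at one point
-/

set_option autoImplicit false
set_option linter.style.haveILetI false

universe u

open TensorProduct IsLocalRing

attribute [local instance] Algebra.TensorProduct.rightAlgebra

namespace Groth.Agent.H91.GeomFlat

open Groth.Agent.H47 Groth.Agent.H47.FlatLocusColim

set_option maxHeartbeats 800000 in
/-- Flatness of `A' ⊗ B` at the point given by a field gives flatness at a point of `E ⊗ P`. -/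
theorem flatAt_of_point {A Ap A' E B P K : Type u} [CommRing A] [CommRing Ap] [CommRing A'] [CommRing E]
    [CommRing B] [CommRing P] [Field K] [Algebra A Ap] [Algebra A A'] [Algebra A' E] [Algebra A E]
    [Algebra Ap E] [IsScalarTower A A' E] [IsScalarTower A Ap E] [Algebra A B] [Algebra B P] [Algebra A P]
    [Algebra Ap P] [IsScalarTower A B P] [IsScalarTower A Ap P]
    (S : Submonoid A) [IsLocalization S Ap] [IsLocalRing E] [IsLocalRing P]
    [Module.Flat A' E] [Module.Flat B P] (n₀ : Ideal A') [n₀.IsPrime] [IsLocalization.AtPrime E n₀]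
    (q'' : PrimeSpectrum (A' ⊗[A] B)) (ξ : A' ⊗[A] B →+* K) (hξ : RingHom.ker ξ = q''.asIdeal)
    (γ : E →+* K) (β : P →+* K) (hγ : ∀ a, γ (algebraMap A' E a) = ξ (a ⊗ₜ 1))
    (hβ : ∀ b, β (algebraMap B P b) = ξ (1 ⊗ₜ b))
    (hγm : maximalIdeal E ≤ RingHom.ker γ) (hβm : maximalIdeal P ≤ RingHom.ker β)
    (h : Module.Flat A' (LocalizedModule q''.asIdeal.primeCompl (A' ⊗[A] B))) :
    ∃ Q : Ideal (E ⊗[Ap] P), Q.IsPrime ∧ ArtinFamily.closedIdeal P E ≤ Q ∧
      GrFlat.FlatAt Ap P E Q := by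
  let C := E ⊗[Ap] P
  let T := A' ⊗[A] B
  have hA : (γ.comp (algebraMap Ap E)) = β.comp (algebraMap Ap P) := by
    refine IsLocalization.ringHom_ext S (RingHom.ext fun a => ?_)
    show γ (algebraMap Ap E (algebraMap A Ap a)) = β (algebraMap Ap P (algebraMap A Ap a))
    rw [← IsScalarTower.algebraMap_apply, ← IsScalarTower.algebraMap_apply,
      IsScalarTower.algebraMap_apply A A' E, IsScalarTower.algebraMap_apply A B P, hγ, hβ]
    exact congrArg ξ (Algebra.TensorProduct.tmul_one_eq_one_tmul a)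
  letI : Algebra Ap K := (γ.comp (algebraMap Ap E)).toAlgebra
  let γa : E →ₐ[Ap] K := { γ with commutes' := fun r => rfl }
  let βa : P →ₐ[Ap] K := { β with commutes' := fun r => (RingHom.congr_fun hA r).symm }
  let pr : C →+* K := (Algebra.TensorProduct.lift γa βa fun _ _ => Commute.all _ _).toRingHom
  have hprl : ∀ e : E, pr (e ⊗ₜ 1) = γ e := fun e => by
    show Algebra.TensorProduct.lift γa βa _ (e ⊗ₜ 1) = _
    rw [Algebra.TensorProduct.lift_tmul, map_one, mul_one]
    rfl
  have hprr : ∀ x : P, pr (1 ⊗ₜ x) = β x := fun x => by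
    show Algebra.TensorProduct.lift γa βa _ (1 ⊗ₜ x) = _
    rw [Algebra.TensorProduct.lift_tmul, map_one, one_mul]
    rfl
  let Q : Ideal C := RingHom.ker pr
  haveI : Q.IsPrime := RingHom.ker_isPrime pr
  have hle : ArtinFamily.closedIdeal P E ≤ Q :=
    ArtinFamily.closedIdeal_le Q
      (fun e he => by
        show pr (e ⊗ₜ 1) = 0
        rw [hprl]
        exact hγm he)
      (fun e he => by
        show pr (1 ⊗ₜ e) = 0
        rw [hprr]
        exact hβm he)
  refine ⟨Q, inferInstance, hle, ?_⟩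
  let ιE : A' →ₐ[A] E := IsScalarTower.toAlgHom A A' E
  let ιP : B →ₐ[A] P := IsScalarTower.toAlgHom A B P
  have hιE : ιE.toRingHom.Flat := by
    show (algebraMap A' E).Flat
    rw [RingHom.flat_algebraMap_iff]
    infer_instance
  have hιP : ιP.toRingHom.Flat := by
    show (algebraMap B P).Flat
    rw [RingHom.flat_algebraMap_iff]
    infer_instance
  haveI : CompatibleSMul A Ap E P := IsLocalization.tensorProduct_compatibleSMul S Ap E P
  let ω : E ⊗[A] P →+* C :=
    (Algebra.TensorProduct.mapOfCompatibleSMul Ap A A E P).toRingHom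
  have hω : Function.Bijective ω :=
    ⟨(TensorProduct.equivOfCompatibleSMul Ap A A E P).injective,
      Algebra.TensorProduct.mapOfCompatibleSMul_surjective _ _ _ _ _⟩
  let θ : T →+* C := ω.comp (Algebra.TensorProduct.map ιE ιP).toRingHom
  have hθ : θ.Flat :=
    RingHom.Flat.comp (FlatFiniteInj.flat_map ιE hιE ιP hιP) (RingHom.Flat.of_bijective hω)
  have hθab : ∀ (a : A') (b : B), θ (a ⊗ₜ b) = algebraMap A' E a ⊗ₜ[Ap] algebraMap B P b :=
    fun a b => rfl
  have hθξ : ∀ z : T, pr (θ z) = ξ z := by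
    intro z
    induction z using TensorProduct.induction_on with
    | zero => simp only [map_zero]
    | tmul a b =>
      rw [hθab, show algebraMap A' E a ⊗ₜ[Ap] algebraMap B P b =
        (algebraMap A' E a ⊗ₜ[Ap] (1 : P)) * ((1 : E) ⊗ₜ[Ap] algebraMap B P b) by simp,
        map_mul, hprl, hprr, hγ, hβ, ← map_mul, Algebra.TensorProduct.tmul_mul_tmul, mul_one, one_mul]
    | add a b ha hb => simp only [map_add, ha, hb]
  letI : Algebra T C := θ.toAlgebra
  haveI : Module.Flat T C := hθ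
  haveI : IsScalarTower A' T C :=
    IsScalarTower.of_algebraMap_eq (R := A') (S := T) (A := C) fun a => by
      show _ = θ (a ⊗ₜ 1)
      rw [hθab, map_one]
      rfl
  have hQT : Q.comap (algebraMap T C) = q''.asIdeal := by
    rw [← hξ]
    refine Ideal.ext fun z => ?_
    show pr (θ z) = 0 ↔ ξ z = 0
    rw [hθξ]
  have h' : Module.Flat A' (LocalizedModule (Q.comap (algebraMap T C)).primeCompl T) := by
    refine (show ∀ (I : Ideal T) [I.IsPrime], I = q''.asIdeal →
      Module.Flat A' (LocalizedModule I.primeCompl T) from ?_) _ hQT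
    rintro I _ rfl
    exact h
  have hflat := (Lib.FlatCA.LocalDescent.flatAt_iff (R := A') (Algebra.linearMap T C)
    (IsBaseChange.linearMap T C) Q).2 h'
  let L := Localization.AtPrime Q
  haveI : Module.Flat A' L := Module.Flat.of_linearEquiv
    (((IsLocalizedModule.iso Q.primeCompl (Algebra.linearMap C L)).symm).restrictScalars A')
  haveI : Module.Flat E L :=
    (Module.flat_iff_of_isLocalization E n₀.primeCompl L).2 inferInstance
  let e0 : L ⊗[P] P ≃ₗ[P] L := TensorProduct.rid P L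
  let e : L ⊗[P] P ≃ₗ[E] L :=
    { e0.toAddEquiv with
      map_smul' := fun c z => by
        show e0 (c • z) = c • e0 z
        induction z using TensorProduct.induction_on with
        | zero => simp
        | add a b ha hb => simp only [smul_add, map_add, ha, hb]
        | tmul l w => simp [e0, TensorProduct.smul_tmul', smul_comm c w l] }
  haveI : Module.Flat E (L ⊗[P] P) := Module.Flat.of_linearEquiv e
  have hQ : (IsLocalRing.maximalIdeal L).comap (algebraMap C L) = Q :=
    Localization.AtPrime.under_maximalIdeal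
  rw [← hQ]
  refine ArtinScheme.flatAt_of_flat_local (W := P) (L := L) (fun x => ?_) fun c l w => ?_
  · exact IsScalarTower.algebraMap_apply P C L x
  · rw [TensorProduct.smul_tmul', Algebra.smul_def, IsScalarTower.algebraMap_apply E C L]
    rfl

set_option maxHeartbeats 800000 in
/-- Over an analytically irreducible ring, flatness is detected at one point of a dominating finite
type domain, when the residue extension is primary. -/
theorem flat_of_analytic_point {A A' B : Type u} [CommRing A] [IsNoetherianRing A] [CommRing A']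
    [IsDomain A'] [CommRing B] [Algebra A A'] [Algebra.FiniteType A A'] [Algebra A B]
    [Algebra.FiniteType A B]
    (hinj : Function.Injective (algebraMap A A')) (p : Ideal A) [p.IsPrime]
    (hcpl : IsDomain (EGA4.Cpl (Localization.AtPrime p))) (n : Ideal A') [n.IsPrime]
    (hn : n.comap (algebraMap A A') = p) (q : PrimeSpectrum B)
    (hq : q.asIdeal.comap (algebraMap A B) = p)
    (hprim : ∀ l : q.asIdeal.ResidueField, (∃ f : Polynomial p.ResidueField, f.Separable ∧
      f.eval₂ (Ideal.ResidueField.map p q.asIdeal (algebraMap A B) hq.symm) l = 0) →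
      l ∈ (Ideal.ResidueField.map p q.asIdeal (algebraMap A B) hq.symm).range)
    (q'' : PrimeSpectrum (A' ⊗[A] B)) (hqB : q''.comap (algebraMap B (A' ⊗[A] B)) = q)
    (hqn : q''.asIdeal.comap (algebraMap A' (A' ⊗[A] B)) = n)
    (h : Module.Flat A' (LocalizedModule q''.asIdeal.primeCompl (A' ⊗[A] B))) :
    Module.Flat A (LocalizedModule q.asIdeal.primeCompl B) := by
  classical
  haveI : IsNoetherianRing B := Algebra.FiniteType.isNoetherianRing A B
  let Ap := Localization.AtPrime p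
  let P := Localization.AtPrime q.asIdeal
  let E := Localization.AtPrime n
  let φP : Ap →+* P := Localization.localRingHom p q.asIdeal (algebraMap A B) hq.symm
  letI : Algebra Ap P := φP.toAlgebra
  haveI : IsScalarTower A Ap P := IsScalarTower.of_algebraMap_eq fun a => by
    show algebraMap A P a = φP (algebraMap A Ap a)
    rw [Localization.localRingHom_to_map, ← IsScalarTower.algebraMap_apply]
  haveI : IsLocalHom (algebraMap Ap P) := Localization.isLocalHom_localRingHom _ _ _ hq.symm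
  let φE : Ap →+* E := Localization.localRingHom p n (algebraMap A A') hn.symm
  letI : Algebra Ap E := φE.toAlgebra
  haveI : IsScalarTower A Ap E := IsScalarTower.of_algebraMap_eq fun a => by
    show algebraMap A E a = φE (algebraMap A Ap a)
    rw [Localization.localRingHom_to_map, ← IsScalarTower.algebraMap_apply]
  haveI : IsLocalHom (algebraMap Ap E) := Localization.isLocalHom_localRingHom _ _ _ hn.symm
  haveI : IsNoetherianRing Ap := IsLocalization.isNoetherianRing p.primeCompl Ap inferInstance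
  haveI : IsNoetherianRing P := IsLocalization.isNoetherianRing q.asIdeal.primeCompl P inferInstance
  haveI : Algebra.EssFiniteType A' E := Algebra.EssFiniteType.of_isLocalization E n.primeCompl
  haveI : Algebra.EssFiniteType A E := Algebra.EssFiniteType.comp A A' E
  haveI : Algebra.EssFiniteType Ap E := Algebra.EssFiniteType.of_comp A Ap E
  haveI : IsDomain E := IsLocalization.isDomain_localization n.primeCompl_le_nonZeroDivisors
  haveI : IsDomain A := Function.Injective.isDomain (algebraMap A A') hinj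
  have hinjE : Function.Injective (algebraMap Ap E) := by
    rw [injective_iff_map_eq_zero]
    intro x hx
    obtain ⟨⟨a, s⟩, has⟩ := IsLocalization.surj p.primeCompl x
    have h0 : algebraMap A E a = 0 := by
      rw [IsScalarTower.algebraMap_apply A Ap E, ← has, map_mul, hx, zero_mul]
    have ha : a = 0 := hinj ((IsLocalization.injective E n.primeCompl_le_nonZeroDivisors
      (h0.trans (map_zero _).symm |> fun e => by
        rwa [IsScalarTower.algebraMap_apply A A' E] at e)).trans (map_zero _).symm)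
    rw [ha, map_zero] at has
    exact (IsLocalization.map_units Ap s).mul_left_eq_zero.1 has
  haveI : Module.Flat A' E := IsLocalization.flat E n.primeCompl
  haveI : Module.Flat B P := IsLocalization.flat P q.asIdeal.primeCompl
  have hmE : (maximalIdeal Ap).map (algebraMap Ap E) ≤ maximalIdeal E :=
    Ideal.map_le_iff_le_comap.2 (IsLocalRing.maximalIdeal_comap (algebraMap Ap E)).ge
  have hmP : (maximalIdeal Ap).map (algebraMap Ap P) ≤ maximalIdeal P :=
    Ideal.map_le_iff_le_comap.2 (IsLocalRing.maximalIdeal_comap (algebraMap Ap P)).ge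
  -- the point
  let K := q''.asIdeal.ResidueField
  let ξ : A' ⊗[A] B →+* K := algebraMap _ _
  let hN := Ideal.ResidueField.map n q''.asIdeal (algebraMap A' (A' ⊗[A] B)) hqn.symm
  let hQ := Ideal.ResidueField.map q.asIdeal q''.asIdeal (algebraMap B (A' ⊗[A] B))
    (congrArg PrimeSpectrum.asIdeal hqB).symm
  obtain ⟨Q, hQp, hle, hflat⟩ := flatAt_of_point (Ap := Ap) (E := E) (P := P) p.primeCompl n q'' ξ
    (Ideal.ker_algebraMap_residueField _) (hN.comp (residue E)) (hQ.comp (residue P))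
    (fun a => by
      show hN (residue E (algebraMap A' E a)) = _
      exact Ideal.ResidueField.map_algebraMap ..)
    (fun b => by
      show hQ (residue P (algebraMap B P b)) = _
      exact Ideal.ResidueField.map_algebraMap ..)
    (fun e he => by
      show hN (residue E e) = 0
      rw [(residue_eq_zero_iff e).2 he, map_zero])
    (fun e he => by
      show hQ (residue P e) = 0
      rw [(residue_eq_zero_iff e).2 he, map_zero]) h
  haveI := hQp
  have hprim' : ∀ l : P ⧸ maximalIdeal P,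
      (∃ f : Polynomial (Ap ⧸ maximalIdeal Ap), f.Separable ∧
        f.eval₂ (Ideal.Quotient.lift (maximalIdeal Ap) (algebraMap Ap (P ⧸ maximalIdeal P)) fun r hr =>
          Ideal.Quotient.eq_zero_iff_mem.2 (hmP (Ideal.mem_map_of_mem _ hr))) l = 0) →
      l ∈ (algebraMap Ap (P ⧸ maximalIdeal P)).range := by
    rintro l ⟨f, hf, hfl⟩
    have e : Ideal.Quotient.lift (maximalIdeal Ap) (algebraMap Ap (P ⧸ maximalIdeal P))
        (fun r hr => Ideal.Quotient.eq_zero_iff_mem.2 (hmP (Ideal.mem_map_of_mem _ hr))) =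
        Ideal.ResidueField.map p q.asIdeal (algebraMap A B) hq.symm :=
      Ideal.Quotient.ringHom_ext (RingHom.ext fun x => rfl)
    rw [e] at hfl
    obtain ⟨c, hc⟩ := hprim l ⟨f, hf, hfl⟩
    obtain ⟨c, rfl⟩ := Ideal.Quotient.mk_surjective c
    exact ⟨c, hc⟩
  have hgood := ArtinFamily.good_of_exists (maximalIdeal Ap) hmE hmP hprim' Q hle hflat
  have key : Module.Flat Ap P := by
    refine ArtinFamily.flat_of_family (A := Ap) (P := P) (M := P) (fun _ : PUnit.{u + 1} => E)
      (fun _ => hgood) fun N => ?_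
    obtain ⟨M, hM⟩ := AnalyticFamily.htop hinjE N
    refine ⟨PUnit.{u + 1}, inferInstance, fun _ => PUnit.unit, fun _ => maximalIdeal E ^ M,
      (iInf_le _ PUnit.unit).trans hM, M, le_iInf fun _ => Ideal.map_le_iff_le_comap.1 ?_⟩
    rw [Ideal.map_pow]
    exact Ideal.pow_right_mono hmE M
  haveI := IsLocalization.flat Ap p.primeCompl
  haveI := key
  haveI : Module.Flat A P := Module.Flat.trans A Ap P
  exact Module.Flat.of_linearEquiv
    ((IsLocalizedModule.iso q.asIdeal.primeCompl (Algebra.linearMap B P)).restrictScalars A)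

/-- Flatness at a point of `D ⊗ B₀` gives flatness at a point of `D ⊗ (C ⊗ B₀)`. -/
theorem exists_tensor_tensor {R₀ C D : Type u} [CommRing R₀] [CommRing C] [CommRing D] [Algebra R₀ C]
    [Algebra R₀ D] [Algebra C D] [IsScalarTower R₀ C D] (B₀ : Type u) [CommRing B₀] [Algebra R₀ B₀]
    (p : PrimeSpectrum (D ⊗[R₀] B₀))
    (h : Module.Flat D (LocalizedModule p.asIdeal.primeCompl (D ⊗[R₀] B₀))) :
    ∃ q'' : PrimeSpectrum (D ⊗[C] (C ⊗[R₀] B₀)),
      q''.comap (algebraMap (C ⊗[R₀] B₀) (D ⊗[C] (C ⊗[R₀] B₀))) =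
        p.comap (stageMap (S₀ := B₀) (IsScalarTower.toAlgHom R₀ C D)).toRingHom ∧
      q''.asIdeal.comap (algebraMap D (D ⊗[C] (C ⊗[R₀] B₀))) =
        p.asIdeal.comap (algebraMap D (D ⊗[R₀] B₀)) ∧
      Module.Flat D (LocalizedModule q''.asIdeal.primeCompl (D ⊗[C] (C ⊗[R₀] B₀))) := by
  let τ := stageMap (S₀ := B₀) (IsScalarTower.toAlgHom R₀ C D)
  letI : Algebra (C ⊗[R₀] B₀) (D ⊗[R₀] B₀) := τ.toRingHom.toAlgebra
  haveI : IsScalarTower C (C ⊗[R₀] B₀) (D ⊗[R₀] B₀) :=
    IsScalarTower.of_algebraMap_eq (R := C) (S := C ⊗[R₀] B₀) (A := D ⊗[R₀] B₀) fun c => rfl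
  haveI : IsScalarTower B₀ (C ⊗[R₀] B₀) (D ⊗[R₀] B₀) :=
    IsScalarTower.of_algebraMap_eq (R := B₀) (S := C ⊗[R₀] B₀) (A := D ⊗[R₀] B₀) fun b => by
    show (1 : D) ⊗ₜ[R₀] b = τ ((1 : C) ⊗ₜ[R₀] b)
    simp [τ, stageMap]
  haveI : IsScalarTower R₀ (C ⊗[R₀] B₀) (D ⊗[R₀] B₀) :=
    IsScalarTower.of_algebraMap_eq (R := R₀) (S := C ⊗[R₀] B₀) (A := D ⊗[R₀] B₀) fun a =>
      (τ.commutes a).symm
  haveI : Algebra.IsPushout C D (C ⊗[R₀] B₀) (D ⊗[R₀] B₀) :=
    (Algebra.IsPushout.comp_iff R₀ C B₀ (C ⊗[R₀] B₀)).1 inferInstance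
  let e := Algebra.IsPushout.equiv C D (C ⊗[R₀] B₀) (D ⊗[R₀] B₀)
  let q'' := p.comap e.toRingEquiv.toRingHom
  refine ⟨q'', ?_, ?_, FlatIntegralInj.flat_of_algEquiv e.symm q'' ?_⟩
  · refine PrimeSpectrum.ext (Ideal.ext fun z => ?_)
    show e ((1 : D) ⊗ₜ[C] z) ∈ p.asIdeal ↔ τ z ∈ p.asIdeal
    rw [Algebra.IsPushout.equiv_tmul, map_one, one_mul]
    rfl
  · refine Ideal.ext fun d => ?_
    show e (algebraMap D _ d) ∈ p.asIdeal ↔ _
    rw [e.commutes]
    rfl
  · have hp : q''.comap e.symm.toRingEquiv.toRingHom = p := PrimeSpectrum.ext (Ideal.ext fun z => by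
      show e (e.symm z) ∈ p.asIdeal ↔ _
      rw [e.apply_symm_apply])
    rw [hp]
    exact h

set_option maxHeartbeats 800000 in
/-- The residue extension at a stage which generates the point is primary. -/
theorem primary_stage {R₀ B₀ C A F F' k L : Type u} [CommRing R₀] [CommRing B₀] [CommRing C] [CommRing A]
    [Field F] [Field F'] [Field k] [Field L] [IsSepClosed k] [Algebra R₀ C] [Algebra R₀ B₀] [Algebra R₀ A]
    (ι : C →ₐ[R₀] A) (Fk : F →+* k) (φ : F →+* F') (kL : k →+* L) (F'L : F' →+* L) (πC : C →+* F)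
    (πA : A →+* k) (π' : C ⊗[R₀] B₀ →+* F') (πL : A ⊗[R₀] B₀ →+* L)
    (hkc : ∀ c, Fk (πC c) = πA (ι c)) (hφc : ∀ c, φ (πC c) = π' (c ⊗ₜ 1))
    (hkL : ∀ a, kL (πA a) = πL (a ⊗ₜ 1)) (hF'L : ∀ z, F'L (π' z) = πL (stageMap (S₀ := B₀) ι z))
    (hcomm : kL.comp Fk = F'L.comp φ) (hπA : Function.Surjective πA)
    (hfrac : ∀ b : F', ∃ x y, π' y ≠ 0 ∧ π' y * b = π' x)
    (hgen : ∀ (R : Type u) [CommRing R] (ψ : A ⊗[R₀] B₀ →+* R), (∀ a, πA a = 0 → ψ (a ⊗ₜ 1) = 0) →
      (∀ z, π' z = 0 → ψ (stageMap (S₀ := B₀) ι z) = 0) → ∀ w, πL w = 0 → ψ w = 0)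
    (l : F') (f : Polynomial F) (hf : f.Separable) (hl : f.eval₂ φ l = 0) : l ∈ φ.range := by
  letI : Algebra F k := Fk.toAlgebra
  letI : Algebra F F' := φ.toAlgebra
  letI : Algebra F L := (kL.comp Fk).toAlgebra
  let kLF : k →ₐ[F] L := { kL with commutes' := fun r => rfl }
  let F'LF : F' →ₐ[F] L := { F'L with commutes' := fun r => (RingHom.congr_fun hcomm r).symm }
  let Φ : k ⊗[F] F' →ₐ[F] L := Algebra.TensorProduct.productMap kLF F'LF
  let lk : k →+* k ⊗[F] F' := (Algebra.TensorProduct.includeLeft : k →ₐ[F] k ⊗[F] F').toRingHom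
  let rF : F' →+* k ⊗[F] F' := (Algebra.TensorProduct.includeRight : F' →ₐ[F] k ⊗[F] F').toRingHom
  have hΦl : ∀ x, Φ (lk x) = kL x := fun x => by simp [Φ, lk, kLF]
  have hΦr : ∀ x, Φ (rF x) = F'L x := fun x => by simp [Φ, rF, F'LF]
  have hb : ∀ c : C, rF (π' (c ⊗ₜ 1)) = lk (πA (ι c)) := fun c => by
    rw [← hφc, ← hkc]
    exact (Algebra.TensorProduct.tmul_one_eq_one_tmul _).symm
  letI : Algebra R₀ (k ⊗[F] F') := ((lk.comp πA).comp (algebraMap R₀ A)).toAlgebra
  let lA : A →ₐ[R₀] k ⊗[F] F' := { lk.comp πA with commutes' := fun r => rfl }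
  let bR : B₀ →ₐ[R₀] k ⊗[F] F' :=
    { rF.comp (π'.comp (Algebra.TensorProduct.includeRight : B₀ →ₐ[R₀] C ⊗[R₀] B₀).toRingHom) with
      commutes' := fun r => by
        show rF (π' ((1 : C) ⊗ₜ algebraMap R₀ B₀ r)) = lk (πA (algebraMap R₀ A r))
        rw [← Algebra.TensorProduct.tmul_one_eq_one_tmul, hb, ι.commutes] }
  let ψ : A ⊗[R₀] B₀ →ₐ[R₀] k ⊗[F] F' := Algebra.TensorProduct.productMap lA bR
  have hψ : ∀ a b, ψ (a ⊗ₜ b) = lk (πA a) * rF (π' ((1 : C) ⊗ₜ b)) := fun a b =>
    Algebra.TensorProduct.productMap_apply_tmul ..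
  have hsplit : ∀ (c : C) (b : B₀), π' (c ⊗ₜ b) = π' (c ⊗ₜ 1) * π' ((1 : C) ⊗ₜ b) := fun c b => by
    rw [← map_mul, Algebra.TensorProduct.tmul_mul_tmul, mul_one, one_mul]
  have hψσ : ∀ z, ψ (stageMap (S₀ := B₀) ι z) = rF (π' z) := by
    intro z
    induction z using TensorProduct.induction_on with
    | zero => simp only [map_zero]
    | tmul c b =>
      rw [show stageMap (S₀ := B₀) ι (c ⊗ₜ b) = ι c ⊗ₜ[R₀] b from rfl, hψ]
      conv_rhs => rw [hsplit c b, map_mul, hb]
    | add a b ha hb => simp only [map_add, ha, hb]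
  have hΦψ : ∀ w, Φ (ψ w) = πL w := by
    intro w
    induction w using TensorProduct.induction_on with
    | zero => simp only [map_zero]
    | tmul a b =>
      rw [hψ, map_mul, hΦl, hΦr, hkL, hF'L,
        show stageMap (S₀ := B₀) ι ((1 : C) ⊗ₜ b) = (1 : A) ⊗ₜ[R₀] b by simp [stageMap],
        ← map_mul, Algebra.TensorProduct.tmul_mul_tmul, mul_one, one_mul]
    | add a b ha hb => simp only [map_add, ha, hb]
  refine mem_range_of_separable Φ.toRingHom ?_ l f hf hl
  refine injective_of_generated _ ψ.toRingHom (fun a => ?_) (fun b => ?_) fun w hw => ?_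
  · obtain ⟨a, rfl⟩ := hπA a
    refine ⟨a ⊗ₜ 1, (hψ a 1).trans ?_⟩
    rw [← Algebra.TensorProduct.one_def, map_one, map_one, mul_one]
    rfl
  · obtain ⟨x, y, hy, hxy⟩ := hfrac b
    refine ⟨_, hy, ⟨_, hψσ y⟩, ⟨stageMap (S₀ := B₀) ι x, ?_⟩⟩
    rw [hxy]
    exact hψσ x
  · refine hgen _ ψ.toRingHom (fun a ha => ?_) (fun z hz => ?_) w ((hΦψ w).symm.trans hw)
    · show ψ (a ⊗ₜ 1) = 0
      rw [hψ, ha, map_zero, zero_mul]
    · show ψ _ = 0
      rw [hψσ, hz, map_zero]

set_option maxHeartbeats 1600000 in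
/-- Flatness over a normal local domain with separably closed residue field is detected at one point. -/
theorem flat_of_normal_point {R₀ : Type u} [CommRing R₀] [Algebra.FiniteType ℤ R₀] {A V : Type u}
    [CommRing A] [CommRing V] [Algebra R₀ A] [Algebra R₀ V] [Algebra A V] [IsScalarTower R₀ A V]
    [IsDomain A] [IsIntegrallyClosed A] [IsLocalRing A] [IsDomain V] [IsLocalRing V]
    [IsLocalHom (algebraMap A V)] [IsSepClosed (maximalIdeal A).ResidueField]
    (hinj : Function.Injective (algebraMap A V)) (B₀ : Type u) [CommRing B₀] [Algebra R₀ B₀]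
    [Algebra.FinitePresentation R₀ B₀] (q : PrimeSpectrum (A ⊗[R₀] B₀))
    (hq : q.asIdeal.comap (algebraMap A (A ⊗[R₀] B₀)) = maximalIdeal A)
    (qV : PrimeSpectrum (V ⊗[R₀] B₀))
    (hqV : qV.comap (stageMap (S₀ := B₀) (IsScalarTower.toAlgHom R₀ A V)).toRingHom = q)
    (hmV : qV.asIdeal.comap (algebraMap V (V ⊗[R₀] B₀)) = maximalIdeal V)
    (h : Module.Flat V (LocalizedModule qV.asIdeal.primeCompl (V ⊗[R₀] B₀))) :
    Module.Flat A (LocalizedModule q.asIdeal.primeCompl (A ⊗[R₀] B₀)) := by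
  classical
  let ι := FlatNormal.Pair (R₀ := R₀) A V
  let G : ι → Type u := fun i => i.D
  let g : ∀ i j : ι, i ≤ j → G i →ₐ[R₀] G j := fun i j hij => Subalgebra.inclusion hij.2
  let κ : ∀ i : ι, i.C →ₐ[R₀] G i := fun i =>
    ((IsScalarTower.toAlgHom R₀ A V).comp i.C.val).codRestrict i.D fun c => i.le ⟨c.1, c.2, rfl⟩
  have : IsDirected ι (· ≤ ·) := FlatNormal.isDirected
  have hne : Nonempty ι := ⟨(FlatNormal.exists_mem (R₀ := R₀) (0 : A) (0 : V)).choose⟩
  have hcolim : FlatCA.IsDirectedColimitRing G (fun i j h => (g i j h).toRingHom) V :=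
    ⟨FlatNormal.isDirected, hne, fun i => RingHom.ext fun x => rfl,
      fun i j k hij hjk => RingHom.ext fun x => rfl, fun i j hij => RingHom.ext fun x => rfl,
      fun a => (FlatNormal.exists_mem (R₀ := R₀) (0 : A) a).elim fun i hi => ⟨i, ⟨a, hi.2⟩, rfl⟩,
      fun i x hx => ⟨i, le_rfl, Subtype.ext hx⟩⟩
  let πV : A ⊗[R₀] B₀ →ₐ[R₀] V ⊗[R₀] B₀ := stageMap (IsScalarTower.toAlgHom R₀ A V)
  let σ : ∀ i : ι, i.C ⊗[R₀] B₀ →ₐ[R₀] A ⊗[R₀] B₀ := fun i => stageMap i.C.val
  let τ : ∀ i : ι, i.C ⊗[R₀] B₀ →ₐ[R₀] G i ⊗[R₀] B₀ := fun i => stageMap (κ i)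
  let qi : ∀ i : ι, PrimeSpectrum (i.C ⊗[R₀] B₀) := fun i => q.comap (σ i).toRingHom
  let υ : ∀ i : ι, G i ⊗[R₀] B₀ →ₐ[R₀] V ⊗[R₀] B₀ :=
    fun i => stageMap (IsScalarTower.toAlgHom R₀ (G i) V)
  let qG : ∀ i : ι, PrimeSpectrum (G i ⊗[R₀] B₀) := fun i => qV.comap (υ i).toRingHom
  have hυg : ∀ (i j : ι) (hij : i ≤ j) z, υ j (stageMap (S₀ := B₀) (g i j hij) z) = υ i z := by
    intro i j hij z
    induction z using TensorProduct.induction_on with
    | zero => simp only [map_zero]
    | tmul a b => rfl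
    | add a b ha hb => simp only [map_add, ha, hb]
  have hστ : ∀ i z, υ i (τ i z) = πV (σ i z) := by
    intro i z
    induction z using TensorProduct.induction_on with
    | zero => simp only [map_zero]
    | tmul a b => rfl
    | add a b ha hb => simp only [map_add, ha, hb]
  have hσ : ∀ (i j : ι) (hij : i ≤ j) z, ∃ z', σ j z' = σ i z := by
    intro i j hij z
    refine ⟨stageMap (S₀ := B₀) (Subalgebra.inclusion hij.1) z, ?_⟩
    induction z using TensorProduct.induction_on with
    | zero => simp only [map_zero]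
    | tmul a b => rfl
    | add a b ha hb => simp only [map_add, ha, hb]
  have hall : ∀ z : A ⊗[R₀] B₀, ∃ i, ∃ z', σ i z' = z := by
    intro z
    induction z using TensorProduct.induction_on with
    | zero => exact hne.elim fun i => ⟨i, 0, map_zero _⟩
    | tmul a b =>
      obtain ⟨i, hi, -⟩ := FlatNormal.exists_mem (R₀ := R₀) a (0 : V)
      exact ⟨i, (⟨a, hi⟩ : i.C) ⊗ₜ[R₀] b, rfl⟩
    | add a b ha hb =>
      obtain ⟨i, a', rfl⟩ := ha
      obtain ⟨j, b', rfl⟩ := hb
      obtain ⟨k, h1, h2⟩ := exists_ge_ge i j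
      obtain ⟨x, hx⟩ := hσ i k h1 a'
      obtain ⟨y, hy⟩ := hσ j k h2 b'
      exact ⟨k, x + y, by rw [map_add, hx, hy]⟩
  have hallV : ∀ z : V ⊗[R₀] B₀, ∃ i, ∃ z', υ i z' = z := by
    intro z
    induction z using TensorProduct.induction_on with
    | zero => exact hne.elim fun i => ⟨i, 0, map_zero _⟩
    | tmul a b =>
      obtain ⟨i, -, hi⟩ := FlatNormal.exists_mem (R₀ := R₀) (0 : A) a
      exact ⟨i, (⟨a, hi⟩ : G i) ⊗ₜ[R₀] b, rfl⟩
    | add a b ha hb =>
      obtain ⟨i, a', rfl⟩ := ha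
      obtain ⟨j, b', rfl⟩ := hb
      obtain ⟨k, h1, h2⟩ := exists_ge_ge i j
      exact ⟨k, stageMap (g i k h1) a' + stageMap (g j k h2) b', by rw [map_add, hυg i k h1, hυg j k h2]⟩
  obtain ⟨i₁, hi₁⟩ := exists_stage_var (R := R₀) (S₀ := B₀) (M₀ := B₀) G g V hcolim
    (fun i => (qG i).asIdeal)
    (fun i j hij z hz => by
      show υ j (stageMap (S₀ := B₀) (g i j hij) z) ∈ qV.asIdeal
      rw [hυg i j hij]
      exact hz)
    (fun i => (qG i).asIdeal.primeCompl)
    (fun i j hij x hx hc => hx (by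
      show υ i x ∈ qV.asIdeal
      rw [← hυg i j hij]
      exact hc))
    (fun q' hW hJ => by
      have e : q' = qV := by
        refine PrimeSpectrum.ext (Ideal.ext fun z => ?_)
        obtain ⟨i, z', rfl⟩ := hallV z
        exact ⟨fun hz => by_contra fun hne => hW i z' hne hz, fun hz => hJ i z' hz⟩
      rw [e]
      exact (InjFlatBC.flat_localized_congr qV.asIdeal.primeCompl
        (AlgebraTensorModule.rid B₀ (V ⊗[R₀] B₀) (V ⊗[R₀] B₀))).2 h)
  -- generators of the point of the closed fibre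
  let k := (maximalIdeal A).ResidueField
  let L := q.asIdeal.ResidueField
  let T := k ⊗[R₀] B₀
  let kL : k →+* L :=
    Ideal.ResidueField.map (maximalIdeal A) q.asIdeal (algebraMap A (A ⊗[R₀] B₀)) hq.symm
  have hkLR : ∀ r : R₀, kL (algebraMap R₀ k r) = algebraMap R₀ L r := fun r => by
    rw [IsScalarTower.algebraMap_apply R₀ A k, IsScalarTower.algebraMap_apply R₀ (A ⊗[R₀] B₀) L,
      IsScalarTower.algebraMap_apply R₀ A (A ⊗[R₀] B₀)]
    exact Ideal.ResidueField.map_algebraMap ..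
  let kLa : k →ₐ[R₀] L := { kL with commutes' := hkLR }
  let bL : B₀ →ₐ[R₀] L :=
    (IsScalarTower.toAlgHom R₀ (A ⊗[R₀] B₀) L).comp Algebra.TensorProduct.includeRight
  let ξ : T →ₐ[R₀] L := Algebra.TensorProduct.productMap kLa bL
  let π : A ⊗[R₀] B₀ →ₐ[R₀] T := stageMap (IsScalarTower.toAlgHom R₀ A k)
  have hπ : Function.Surjective π :=
    TensorProduct.map_surjective (Ideal.algebraMap_residueField_surjective (maximalIdeal A))
      Function.surjective_id
  have hξπ : ∀ z, ξ (π z) = algebraMap (A ⊗[R₀] B₀) L z := by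
    intro z
    induction z using TensorProduct.induction_on with
    | zero => simp only [map_zero]
    | tmul a b =>
      have e1 : π (a ⊗ₜ b) = algebraMap A k a ⊗ₜ b := rfl
      have e2 : kL (algebraMap A k a) = algebraMap (A ⊗[R₀] B₀) L (a ⊗ₜ[R₀] (1 : B₀)) :=
        Ideal.ResidueField.map_algebraMap ..
      rw [e1, show a ⊗ₜ[R₀] b = a ⊗ₜ[R₀] (1 : B₀) * (1 : A) ⊗ₜ[R₀] b by simp, map_mul, ← e2]
      exact Algebra.TensorProduct.productMap_apply_tmul ..
    | add a b ha hb => simp only [map_add, ha, hb]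
  haveI : IsNoetherianRing T := Algebra.FiniteType.isNoetherianRing k T
  obtain ⟨S, hS⟩ := (IsNoetherian.noetherian (RingHom.ker ξ.toRingHom) : Ideal.FG _)
  obtain ⟨i₂, hi₂⟩ : ∃ i, ∀ t ∈ S, ∃ z, π (σ i z) = t := by
    clear hS
    induction S using Finset.induction with
    | empty => exact hne.elim fun i => ⟨i, by simp⟩
    | insert t S _ ih =>
      obtain ⟨i, hi⟩ := ih
      obtain ⟨z, rfl⟩ := hπ t
      obtain ⟨j, z', rfl⟩ := hall z
      obtain ⟨l, h1, h2⟩ := exists_ge_ge i j
      refine ⟨l, fun s hs => ?_⟩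
      rcases Finset.mem_insert.1 hs with rfl | hs
      · obtain ⟨w, hw⟩ := hσ j l h2 z'
        exact ⟨w, congrArg π hw⟩
      · obtain ⟨w, hw⟩ := hi s hs
        obtain ⟨w', hw'⟩ := hσ i l h1 w
        exact ⟨w', by rw [hw', hw]⟩
  obtain ⟨i, h1i, h2i⟩ := exists_ge_ge i₁ i₂
  -- a normal stage above
  obtain ⟨C₁, hle, hC₁, hnor⟩ := FlatNormal.exists_normal i.C i.hC
  let j : ι := ⟨C₁, C₁.map (IsScalarTower.toAlgHom R₀ A V) ⊔ i.D, hC₁, (hC₁.map _).sup i.hD, le_sup_left⟩
  have hij : i ≤ j := ⟨hle, le_sup_right⟩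
  haveI : IsIntegrallyClosed j.C := hnor
  haveI : Algebra.FiniteType R₀ j.C := j.C.fg_iff_finiteType.1 j.hC
  haveI : Algebra.FiniteType R₀ (G j) := j.D.fg_iff_finiteType.1 j.hD
  haveI : Algebra.FiniteType ℤ j.C :=
    Algebra.FiniteType.trans (R := ℤ) (S := R₀) (A := j.C) inferInstance inferInstance
  haveI : IsNoetherianRing j.C := Algebra.FiniteType.isNoetherianRing ℤ j.C
  letI : Algebra j.C (G j) := (κ j).toRingHom.toAlgebra
  haveI : IsScalarTower R₀ j.C (G j) :=
    IsScalarTower.of_algebraMap_eq fun r => ((κ j).commutes r).symm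
  haveI : Algebra.FiniteType j.C (G j) :=
    Algebra.FiniteType.of_restrictScalars_finiteType R₀ j.C (G j)
  have hinjC : Function.Injective (algebraMap j.C (G j)) := fun a b hab =>
    Subtype.ext (hinj (congrArg Subtype.val hab))
  let p : Ideal j.C := (maximalIdeal A).comap (algebraMap j.C A)
  haveI : p.IsPrime := Ideal.IsPrime.comap _
  haveI : IsNoetherianRing (Localization.AtPrime p) :=
    IsLocalization.isNoetherianRing p.primeCompl _ inferInstance
  let n : Ideal (G j) := (maximalIdeal V).comap (algebraMap (G j) V)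
  haveI : n.IsPrime := Ideal.IsPrime.comap _
  have hnp : n.comap (algebraMap j.C (G j)) = p := by
    refine Ideal.ext fun c => ?_
    show algebraMap A V c ∈ maximalIdeal V ↔ (c : A) ∈ maximalIdeal A
    exact map_mem_nonunits_iff (algebraMap A V) _
  have hqp : (qi j).asIdeal.comap (algebraMap j.C (j.C ⊗[R₀] B₀)) = p := by
    refine Ideal.ext fun c => ?_
    show σ j (c ⊗ₜ 1) ∈ q.asIdeal ↔ (c : A) ∈ maximalIdeal A
    rw [← hq]
    rfl
  have hflatG : Module.Flat (G j) (LocalizedModule (qG j).asIdeal.primeCompl (G j ⊗[R₀] B₀)) := by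
    refine (InjFlatBC.flat_localized_congr (qG j).asIdeal.primeCompl
      (AlgebraTensorModule.rid B₀ (G j ⊗[R₀] B₀) (G j ⊗[R₀] B₀))).1
        (flat_stage (S₀ := B₀) B₀ (g i₁ j (h1i.trans hij)) (qG j) (hi₁ _ ?_ ?_))
    · intro x hx hc
      refine hx ?_
      show υ i₁ x ∈ qV.asIdeal
      rw [← hυg i₁ j (h1i.trans hij)]
      exact hc
    · intro x hx
      show υ j _ ∈ qV.asIdeal
      exact (hυg i₁ j (h1i.trans hij) x).symm ▸ hx
  obtain ⟨q'', hqB, hqn, hfl⟩ := exists_tensor_tensor (C := j.C) B₀ (qG j) hflatG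
  -- the residue extension at the stage is primary
  let φ := Ideal.ResidueField.map p (qi j).asIdeal (algebraMap j.C (j.C ⊗[R₀] B₀)) hqp.symm
  have hprim : ∀ l : (qi j).asIdeal.ResidueField, (∃ f : Polynomial p.ResidueField, f.Separable ∧
      f.eval₂ φ l = 0) → l ∈ φ.range := by
    intro l ⟨f, hf, hfl⟩
    refine primary_stage (R₀ := R₀) (B₀ := B₀) (C := j.C) (A := A) (k := k) (L := L) j.C.val
      (Ideal.ResidueField.map p (maximalIdeal A) (algebraMap j.C A) rfl) φ kL
      (Ideal.ResidueField.map (qi j).asIdeal q.asIdeal (σ j).toRingHom rfl)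
      (algebraMap j.C p.ResidueField) (algebraMap A k)
      (algebraMap (j.C ⊗[R₀] B₀) (qi j).asIdeal.ResidueField) (algebraMap (A ⊗[R₀] B₀) L)
      (fun c => Ideal.ResidueField.map_algebraMap ..) (fun c => Ideal.ResidueField.map_algebraMap ..)
      (fun a => Ideal.ResidueField.map_algebraMap ..) (fun z => Ideal.ResidueField.map_algebraMap ..)
      (Ideal.ResidueField.ringHom_ext (RingHom.ext fun c => ?_))
      (Ideal.algebraMap_residueField_surjective _) (fun b => ?_) (fun R _ ψ hA hC w hw => ?_) l f hf hfl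
    · show kL (Ideal.ResidueField.map p (maximalIdeal A) (algebraMap j.C A) rfl
          (algebraMap j.C p.ResidueField c)) =
        Ideal.ResidueField.map (qi j).asIdeal q.asIdeal (σ j).toRingHom rfl (φ (algebraMap j.C p.ResidueField c))
      have a1 : Ideal.ResidueField.map p (maximalIdeal A) (algebraMap j.C A) rfl
          (algebraMap j.C p.ResidueField c) = algebraMap A k (c : A) := Ideal.ResidueField.map_algebraMap ..
      have a2 : φ (algebraMap j.C p.ResidueField c) =
          algebraMap (j.C ⊗[R₀] B₀) (qi j).asIdeal.ResidueField (algebraMap j.C _ c) :=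
        Ideal.ResidueField.map_algebraMap ..
      rw [a1, a2]
      refine (Ideal.ResidueField.map_algebraMap ..).trans
        (Eq.trans ?_ (Ideal.ResidueField.map_algebraMap ..).symm)
      rfl
    · haveI : IsDomain ((j.C ⊗[R₀] B₀) ⧸ (qi j).asIdeal) := Ideal.Quotient.isDomain _
      haveI : Nontrivial ((j.C ⊗[R₀] B₀) ⧸ (qi j).asIdeal) := IsDomain.toNontrivial
      obtain ⟨x, y, hy, hxy⟩ := IsFractionRing.div_surjective ((j.C ⊗[R₀] B₀) ⧸ (qi j).asIdeal) b
      obtain ⟨x, rfl⟩ := Ideal.Quotient.mk_surjective x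
      obtain ⟨y, rfl⟩ := Ideal.Quotient.mk_surjective y
      have hy0 := IsFractionRing.to_map_ne_zero_of_mem_nonZeroDivisors
        (K := (qi j).asIdeal.ResidueField) hy
      refine ⟨x, y, hy0, ?_⟩
      rw [← hxy]
      exact mul_div_cancel₀ _ hy0
    · let J := (qi j).asIdeal.map (σ j)
      have h1 : π w ∈ J.map π := by
        have h0 : ξ (π w) = 0 := by rw [hξπ]; exact hw
        refine (show RingHom.ker ξ.toRingHom ≤ J.map π from ?_) h0
        rw [← hS, Ideal.span_le]
        intro t ht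
        obtain ⟨z, rfl⟩ := hi₂ t ht
        obtain ⟨z', hz'⟩ := hσ i₂ j (h2i.trans hij) z
        have h0' : ξ (π (σ i₂ z)) = 0 :=
          (hS.le (Ideal.subset_span ht) : π (σ i₂ z) ∈ RingHom.ker ξ.toRingHom)
        rw [hξπ, ← hz', Ideal.algebraMap_residueField_eq_zero] at h0'
        rw [← hz']
        exact Ideal.mem_map_of_mem _ (Ideal.mem_map_of_mem _ h0')
      obtain ⟨v, hv, hvw⟩ := (Ideal.mem_map_iff_of_surjective π hπ).1 h1
      have hJ : J ≤ RingHom.ker ψ := Ideal.map_le_iff_le_comap.2 fun z hz =>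
        hC z (Ideal.algebraMap_residueField_eq_zero.2 hz)
      have hker : RingHom.ker π ≤ RingHom.ker ψ := by
        show RingHom.ker (Algebra.TensorProduct.map (IsScalarTower.toAlgHom R₀ A k) (AlgHom.id R₀ B₀)) ≤ _
        rw [Algebra.TensorProduct.rTensor_ker _ (Ideal.algebraMap_residueField_surjective _),
          Ideal.map_le_iff_le_comap]
        exact fun a ha => hA a ha
      have h2 : w - v ∈ RingHom.ker π := by
        rw [RingHom.mem_ker, map_sub, hvw, sub_self]
      have := add_mem (hker h2) (hJ hv)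
      rwa [sub_add_cancel] at this
  have hN : Module.Flat j.C (LocalizedModule (qi j).asIdeal.primeCompl (j.C ⊗[R₀] B₀)) := by
    refine flat_of_analytic_point hinjC p (ExcellentZ.isDomain_cpl j.C p) n hnp (qi j) hqp hprim
      q'' (hqB.trans ?_) (hqn.trans ?_) hfl
    · refine PrimeSpectrum.ext (Ideal.ext fun z => ?_)
      show υ j (τ j z) ∈ qV.asIdeal ↔ σ j z ∈ q.asIdeal
      rw [hστ, ← hqV]
      rfl
    · refine Ideal.ext fun d => ?_
      show υ j (d ⊗ₜ 1) ∈ qV.asIdeal ↔ algebraMap (G j) V d ∈ maximalIdeal V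
      rw [← hmV]
      rfl
  have := flat_stage (S₀ := B₀) B₀ j.C.val q ((InjFlatBC.flat_localized_congr _
    (AlgebraTensorModule.rid B₀ (j.C ⊗[R₀] B₀) (j.C ⊗[R₀] B₀))).2 hN)
  exact (InjFlatBC.flat_localized_congr q.asIdeal.primeCompl
    (AlgebraTensorModule.rid B₀ (A ⊗[R₀] B₀) (A ⊗[R₀] B₀))).1 this

end Groth.Agent.H91.GeomFlat
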