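import Groth.Agent.H47.FlatValuative
import Groth.Agent.H91.GeomFlat.Stage
import Groth.Agent.H91.GeomFlat.Conj
import Mathlib.FieldTheory.IsAlgClosed.AlgebraicClosure

/-!
# Flatness over a geometrically unibranch domain is detected at one point
-/

set_option autoImplicit false
set_option linter.style.haveILetI false

universe u

open TensorProduct IsLocalRing Polynomial

attribute [local instance] Algebra.TensorProduct.rightAlgebra

namespace Groth.Agent.H91.GeomFlat

open Groth.Agent.H47 Groth.Agent.H47.FlatLocusColim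

/-- Two field extensions of a field embed in a common one. -/
theorem exists_common_field {k K₁ K₂ : Type u} [Field k] [Field K₁] [Field K₂] (f₁ : k →+* K₁)
    (f₂ : k →+* K₂) : ∃ (Ω : Type u) (_ : Field Ω) (j₁ : K₁ →+* Ω) (j₂ : K₂ →+* Ω),
      j₁.comp f₁ = j₂.comp f₂ := by
  letI := f₁.toAlgebra
  letI := f₂.toAlgebra
  haveI : Nontrivial (K₁ ⊗[k] K₂) := H20.GeomIrred.nontrivial_tensor k K₁ K₂
  obtain ⟨M, hM⟩ := Ideal.exists_maximal (K₁ ⊗[k] K₂)
  letI := Ideal.Quotient.field M
  exact ⟨(K₁ ⊗[k] K₂) ⧸ M, inferInstance,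
    (Ideal.Quotient.mk M).comp (Algebra.TensorProduct.includeLeft : K₁ →ₐ[k] K₁ ⊗[k] K₂).toRingHom,
    (Ideal.Quotient.mk M).comp (Algebra.TensorProduct.includeRight : K₂ →ₐ[k] K₁ ⊗[k] K₂).toRingHom,
    RingHom.ext fun c => congrArg (Ideal.Quotient.mk M) (Algebra.TensorProduct.tmul_one_eq_one_tmul c)⟩

/-- The residue field of a normal local ring with separably closed fractions is separably closed. -/
theorem isSepClosed_residueField {F Ks Lb : Type u} [CommRing F] [IsLocalRing F] [IsDomain F]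
    [IsIntegrallyClosed F] [Field Ks] [Algebra F Ks] [IsFractionRing F Ks] [IsSepClosed Ks]
    [Field Lb] [IsAlgClosed Lb] [Algebra Ks Lb] (V : ValuationSubring Lb) (χ : F →+* V)
    (hχ : ∀ x, (χ x : Lb) = algebraMap Ks Lb (algebraMap F Ks x)) (hloc : (maximalIdeal V).comap χ = maximalIdeal F) :
    IsSepClosed (maximalIdeal F).ResidueField := by
  refine IsSepClosed.of_exists_root _ fun p hpm hpi hps => ?_
  let π : F →+* (maximalIdeal F).ResidueField := algebraMap _ _
  have hπ : Function.Surjective π := Ideal.algebraMap_residueField_surjective _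
  obtain ⟨G, hG, hGd, hGm⟩ := Polynomial.lifts_and_natDegree_eq_and_monic
    (Polynomial.map_surjective π hπ p : p ∈ Polynomial.lifts π) hpm
  let φ : F →+* Lb := (algebraMap Ks Lb).comp (algebraMap F Ks)
  have hd : (G.map φ).degree ≠ 0 := by
    rw [hGm.degree_map, Polynomial.degree_eq_natDegree hGm.ne_zero, hGd]
    simpa using hpi.natDegree_pos.ne'
  obtain ⟨r, hr⟩ := IsAlgClosed.exists_root _ hd
  rw [IsRoot.def, eval_map] at hr
  have hV : φ = V.subtype.comp χ := RingHom.ext fun x => (hχ x).symm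
  have hrV : r ∈ V := by
    refine FlatValuative.mem_of_isIntegral V ⟨G.map χ, hGm.map _, ?_⟩
    rw [eval₂_map]
    exact hV ▸ hr
  let κV := (maximalIdeal V).ResidueField
  let res : V →+* κV := algebraMap _ _
  let ι : (maximalIdeal F).ResidueField →+* κV :=
    Ideal.ResidueField.map (maximalIdeal F) (maximalIdeal V) χ hloc.symm
  have hι : ι.comp π = res.comp χ := RingHom.ext fun x => Ideal.ResidueField.map_algebraMap ..
  have h0 : p.eval₂ ι (res ⟨r, hrV⟩) = 0 := by
    rw [← hG, eval₂_map, hι, ← hom_eval₂]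
    have : G.eval₂ χ ⟨r, hrV⟩ = 0 := Subtype.ext (by
      show V.subtype (G.eval₂ χ ⟨r, hrV⟩) = 0
      rw [hom_eval₂, ← hV]
      exact hr)
    rw [this, map_zero]
  have hd0 : (G.derivative).eval₂ φ r ≠ 0 := by
    intro hc
    refine hps.eval₂_derivative_ne_zero ι h0 ?_
    rw [← hG, derivative_map, eval₂_map, hι, ← hom_eval₂]
    have : G.derivative.eval₂ χ ⟨r, hrV⟩ = 0 := Subtype.ext (by
      show V.subtype (G.derivative.eval₂ χ ⟨r, hrV⟩) = 0
      rw [hom_eval₂, ← hV]
      exact hc)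
    rw [this, map_zero]
  -- the root is separable over the fractions
  let GK := G.map (algebraMap F Ks)
  have hrGK : aeval r GK = 0 := by rw [aeval_def, eval₂_map]; exact hr
  have hint : IsIntegral Ks r := ⟨GK, hGm.map _, hrGK⟩
  have hmsep : (minpoly Ks r).Separable := by
    rw [Polynomial.separable_iff_derivative_ne_zero (minpoly.irreducible hint)]
    intro hm
    obtain ⟨H, hH⟩ := minpoly.dvd Ks r hrGK
    refine hd0 ?_
    have : aeval r GK.derivative = 0 := by
      rw [hH, derivative_mul, hm, zero_mul, zero_add, map_mul, minpoly.aeval, zero_mul]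
    simpa [GK, derivative_map, aeval_def, eval₂_map] using this
  obtain ⟨c, hc⟩ := minpoly.mem_range_of_degree_eq_one Ks r
    (IsSepClosed.degree_eq_one_of_irreducible Ks (minpoly.irreducible hint) hmsep)
  have hcint : IsIntegral F c := ⟨G, hGm, (algebraMap Ks Lb).injective (by
    rw [hom_eval₂, hc, map_zero]; exact hr)⟩
  obtain ⟨a, ha⟩ := IsIntegrallyClosed.algebraMap_eq_of_integral hcint
  refine ⟨π a, ?_⟩
  rw [← hG, eval_map, eval₂_at_apply]
  have : G.eval a = 0 := IsFractionRing.injective F Ks ((algebraMap Ks Lb).injective (by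
    rw [map_zero, map_zero, ← eval₂_at_apply, ha, hom_eval₂, hc]
    exact hr))
  rw [this, map_zero]

set_option maxHeartbeats 1600000 in
set_option synthInstance.maxHeartbeats 400000 in
/-- Flatness at all points over a point is deduced from one point of a dominating valuation ring. -/
theorem flat_of_point_aux {R₀ : Type u} [CommRing R₀] [Algebra.FiniteType ℤ R₀] (B₀ : Type u) [CommRing B₀]
    [Algebra R₀ B₀] [Algebra.FinitePresentation R₀ B₀]
    {A A' A₁ K Ks Lb : Type u} [CommRing A] [IsLocalRing A] [CommRing A'] [IsLocalRing A']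
    [Algebra R₀ A] [Algebra R₀ A'] [Algebra A A'] [IsScalarTower R₀ A A'] [IsLocalHom (algebraMap A A')]
    [CommRing A₁] [IsDomain A₁] [IsLocalRing A₁] [IsIntegrallyClosed A₁] [Algebra A A₁]
    [Algebra.IsIntegral A A₁] [Field K] [Algebra A₁ K] [IsFractionRing A₁ K] [Field Ks] [Algebra K Ks]
    [Algebra A₁ Ks] [IsScalarTower A₁ K Ks] [IsGalois K Ks] [IsSepClosed Ks] [Field Lb] [IsAlgClosed Lb]
    [Algebra Ks Lb] (V : ValuationSubring Lb) (θ : A' →+* V) [IsLocalHom θ]
    (hθ : ∀ a : A, (θ (algebraMap A A' a) : Lb) = algebraMap Ks Lb (algebraMap A₁ Ks (algebraMap A A₁ a)))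
    (hinjA : Function.Injective (algebraMap A A₁))
    (hpi : ∀ (Ω : Type u) [Field Ω] (χ₁ χ₂ : A₁ →+* Ω),
      (∀ a : A, χ₁ (algebraMap A _ a) = χ₂ (algebraMap A _ a)) →
      (∀ x, ¬ IsUnit x → χ₁ x = 0) → (∀ x, ¬ IsUnit x → χ₂ x = 0) → χ₁ = χ₂)
    (q : PrimeSpectrum (A ⊗[R₀] B₀))
    (hq : q.asIdeal.comap (algebraMap A (A ⊗[R₀] B₀)) = maximalIdeal A)
    (q' : PrimeSpectrum (A' ⊗[R₀] B₀))
    (hq' : q'.comap (stageMap (S₀ := B₀) (IsScalarTower.toAlgHom R₀ A A')).toRingHom = q)
    (hm' : q'.asIdeal.comap (algebraMap A' (A' ⊗[R₀] B₀)) = maximalIdeal A')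
    (h : Module.Flat A' (LocalizedModule q'.asIdeal.primeCompl (A' ⊗[R₀] B₀))) :
    Module.Flat A (LocalizedModule q.asIdeal.primeCompl (A ⊗[R₀] B₀)) := by
  classical
  haveI : IsNoetherianRing R₀ := Algebra.FiniteType.isNoetherianRing ℤ R₀
  let R := integralClosure A₁ Ks
  letI : Algebra A R := ((algebraMap A₁ R).comp (algebraMap A A₁)).toAlgebra
  haveI : IsScalarTower A A₁ R := IsScalarTower.of_algebraMap_eq fun _ => rfl
  haveI : Algebra.IsIntegral A R := Algebra.IsIntegral.trans A₁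
  letI : Algebra R₀ R := ((algebraMap A R).comp (algebraMap R₀ A)).toAlgebra
  haveI : IsScalarTower R₀ A R := IsScalarTower.of_algebraMap_eq fun _ => rfl
  have hRK : ∀ a : A, ((algebraMap A R a : R) : Ks) = algebraMap A₁ Ks (algebraMap A A₁ a) := fun a => rfl
  have hinjR : Function.Injective (algebraMap A R) := fun a b hab => by
    have := congrArg (fun x : R => (x : Ks)) hab
    simp only [hRK, IsScalarTower.algebraMap_apply A₁ K Ks] at this
    exact hinjA (IsFractionRing.injective A₁ K ((algebraMap K Ks).injective this))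
  -- the map to the valuation ring
  let f : A →+* Lb := V.subtype.comp (θ.comp (algebraMap A A'))
  have hint : ∀ x : R, algebraMap Ks Lb (x : Ks) ∈ V := fun x => by
    obtain ⟨P, hP, hPx⟩ := Algebra.IsIntegral.isIntegral (R := A) x
    refine FlatValuative.mem_of_isIntegral V ⟨P.map (θ.comp (algebraMap A A')), hP.map _, ?_⟩
    rw [eval₂_map]
    have e : (algebraMap V Lb).comp (θ.comp (algebraMap A A')) =
        ((algebraMap Ks Lb).comp (algebraMap R Ks)).comp (algebraMap A R) := RingHom.ext fun a => hθ a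
    rw [e]
    exact (hom_eval₂ P (algebraMap A R) ((algebraMap Ks Lb).comp (algebraMap R Ks)) x).symm.trans
      (by rw [hPx, map_zero])
  let χ : R →+* V := ((algebraMap Ks Lb).comp (algebraMap R Ks)).codRestrict V.toSubring hint
  have hχA : ∀ a : A, χ (algebraMap A R a) = θ (algebraMap A A' a) := fun a => Subtype.ext (hθ a).symm
  have hχinj : Function.Injective χ := fun x y hxy =>
    Subtype.ext ((algebraMap Ks Lb).injective (congrArg (fun z : V => (z : Lb)) hxy))
  let n : Ideal R := (maximalIdeal V).comap χ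
  haveI : n.IsPrime := Ideal.IsPrime.comap _
  haveI : IsFractionRing R Ks := by
    haveI : Algebra.IsAlgebraic A₁ Ks :=
      (IsFractionRing.comap_isAlgebraic_iff (A := A₁) (K := K) (C := Ks)).mpr inferInstance
    exact integralClosure.isFractionRing_of_algebraic fun x hx =>
      IsFractionRing.injective A₁ K (((algebraMap K Ks).injective
        (((IsScalarTower.algebraMap_apply A₁ K Ks x).symm.trans hx).trans (map_zero _).symm)).trans
        (map_zero _).symm)
  haveI : IsIntegrallyClosed R := (isIntegrallyClosed_iff Ks).2 fun {x} hx =>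
    ⟨⟨x, isIntegral_trans (R := A₁) (A := R) x hx⟩, rfl⟩
  let F := Localization.AtPrime n
  haveI : IsDomain F := IsLocalization.isDomain_localization n.primeCompl_le_nonZeroDivisors
  haveI : IsIntegrallyClosed F :=
    isIntegrallyClosed_of_isLocalization _ n.primeCompl n.primeCompl_le_nonZeroDivisors
  have hu : ∀ s : n.primeCompl, IsUnit (χ s) := fun s =>
    not_not.1 fun hs => s.2 ((IsLocalRing.mem_maximalIdeal _).2 hs)
  let χF : F →+* V := IsLocalization.lift hu
  have hχF : ∀ x : R, χF (algebraMap R F x) = χ x := fun x => IsLocalization.lift_eq hu x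
  letI : Algebra F Ks := (IsLocalization.lift (M := n.primeCompl) (g := algebraMap R Ks)
    fun s => IsUnit.mk0 _ fun hs => s.2 (by
      rw [show (s : R) = 0 from IsFractionRing.injective R Ks (hs.trans (map_zero _).symm)]
      exact n.zero_mem)).toAlgebra
  haveI : IsScalarTower R F Ks := IsScalarTower.of_algebraMap_eq fun x =>
    (IsLocalization.lift_eq _ x).symm
  haveI : IsFractionRing F Ks :=
    IsFractionRing.isFractionRing_of_isDomain_of_isLocalization n.primeCompl F Ks
  have hχFK : ∀ x, (χF x : Lb) = algebraMap Ks Lb (algebraMap F Ks x) := by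
    intro x
    have e : V.subtype.comp χF = (algebraMap Ks Lb).comp (algebraMap F Ks) := by
      refine IsLocalization.ringHom_ext n.primeCompl (RingHom.ext fun y => ?_)
      show (χF (algebraMap R F y) : Lb) = algebraMap Ks Lb (algebraMap F Ks (algebraMap R F y))
      rw [hχF, ← IsScalarTower.algebraMap_apply R F Ks]
      rfl
    exact RingHom.congr_fun e x
  have hχFinj : Function.Injective χF := fun x y hxy =>
    IsFractionRing.injective F Ks ((algebraMap Ks Lb).injective (by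
      rw [← hχFK, ← hχFK, hxy]))
  have hχFloc : (maximalIdeal V).comap χF = maximalIdeal F := by
    haveI : ((maximalIdeal V).comap χF).IsPrime := Ideal.IsPrime.comap _
    refine le_antisymm (le_maximalIdeal Ideal.IsPrime.ne_top') ?_
    rw [← Localization.AtPrime.map_eq_maximalIdeal, Ideal.map_le_iff_le_comap]
    intro x hx
    show χF (algebraMap R F x) ∈ maximalIdeal V
    rw [hχF]
    exact hx
  haveI := isSepClosed_residueField V χF hχFK hχFloc
  -- algebra structures on the valuation ring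
  letI : Algebra R₀ V := (θ.comp (algebraMap R₀ A')).toAlgebra
  let θa : A' →ₐ[R₀] V := { θ with commutes' := fun r => rfl }
  letI : Algebra F V := χF.toAlgebra
  have hFV : ∀ r : R₀, χF (algebraMap R₀ F r) = algebraMap R₀ V r := fun r => by
    rw [IsScalarTower.algebraMap_apply R₀ R F, hχF]
    show χ (algebraMap A R (algebraMap R₀ A r)) = θ (algebraMap R₀ A' r)
    rw [hχA, ← IsScalarTower.algebraMap_apply]
  haveI : IsScalarTower R₀ F V := IsScalarTower.of_algebraMap_eq fun r => (hFV r).symm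
  haveI : IsLocalHom (algebraMap F V) :=
    ((IsLocalRing.local_hom_TFAE χF).out 0 4 rfl rfl).2 hχFloc
  -- the point over the valuation ring
  let f₁ := Ideal.ResidueField.map (maximalIdeal A') q'.asIdeal (algebraMap A' (A' ⊗[R₀] B₀)) hm'.symm
  let f₂ := Ideal.ResidueField.map (maximalIdeal A') (maximalIdeal V) θ
    (((IsLocalRing.local_hom_TFAE θ).out 0 4 rfl rfl).1 inferInstance).symm
  obtain ⟨Ω, _, j₁, j₂, hj⟩ := exists_common_field f₁ f₂
  let ξ' : A' ⊗[R₀] B₀ →+* Ω := j₁.comp (algebraMap _ _)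
  have hξ'A : ∀ a : A', ξ' (a ⊗ₜ 1) = j₂ (algebraMap V _ (θ a)) := fun a => by
    have e1 := RingHom.congr_fun hj (algebraMap A' _ a)
    simp only [RingHom.comp_apply, f₁, f₂, Ideal.ResidueField.map_algebraMap] at e1
    exact e1
  letI : Algebra R₀ Ω := (ξ'.comp (algebraMap R₀ (A' ⊗[R₀] B₀))).toAlgebra
  have hv : ∀ r : R₀, j₂ (algebraMap V (maximalIdeal V).ResidueField (θ (algebraMap R₀ A' r))) =
      ξ' (algebraMap R₀ (A' ⊗[R₀] B₀) r) := fun r => by
    rw [← hξ'A]
    rfl
  let vΩ : V →ₐ[R₀] Ω :=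
    { j₂.comp (algebraMap V (maximalIdeal V).ResidueField) with commutes' := hv }
  have hbv : ∀ r : R₀, ξ' ((1 : A') ⊗ₜ algebraMap R₀ B₀ r) = ξ' (algebraMap R₀ (A' ⊗[R₀] B₀) r) :=
    fun r => by
      rw [← Algebra.TensorProduct.tmul_one_eq_one_tmul]
      rfl
  let bΩ : B₀ →ₐ[R₀] Ω :=
    { ξ'.comp (Algebra.TensorProduct.includeRight : B₀ →ₐ[R₀] A' ⊗[R₀] B₀).toRingHom with
      commutes' := hbv }
  let ξV : V ⊗[R₀] B₀ →+* Ω := (Algebra.TensorProduct.productMap vΩ bΩ).toRingHom
  have hξVθ : ∀ z, ξV (stageMap (S₀ := B₀) θa z) = ξ' z := by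
    intro z
    induction z using TensorProduct.induction_on with
    | zero => simp only [map_zero]
    | tmul a b =>
      rw [show a ⊗ₜ[R₀] b = a ⊗ₜ[R₀] (1 : B₀) * (1 : A') ⊗ₜ[R₀] b by simp, map_mul, map_mul, map_mul,
        hξ'A]
      congr 1
      · simp [ξV, vΩ, θa, stageMap]
      · simp [ξV, bΩ, θa, stageMap]
    | add a b ha hb => simp only [map_add, ha, hb]
  haveI : (RingHom.ker ξV).IsPrime := RingHom.ker_isPrime ξV
  let qV : PrimeSpectrum (V ⊗[R₀] B₀) := ⟨RingHom.ker ξV, inferInstance⟩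
  have hqVθ : qV.comap (stageMap (S₀ := B₀) θa).toRingHom = q' :=
    PrimeSpectrum.ext (Ideal.ext fun z => by
      show ξV (stageMap (S₀ := B₀) θa z) = 0 ↔ z ∈ q'.asIdeal
      rw [hξVθ]
      show j₁ (algebraMap _ _ z) = 0 ↔ _
      rw [map_eq_zero, Ideal.algebraMap_residueField_eq_zero])
  have hmV : qV.asIdeal.comap (algebraMap V (V ⊗[R₀] B₀)) = maximalIdeal V := Ideal.ext fun x => by
    show ξV (x ⊗ₜ 1) = 0 ↔ _
    rw [show ξV (x ⊗ₜ 1) = j₂ (algebraMap V _ x) by simp [ξV, vΩ], map_eq_zero,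
      Ideal.algebraMap_residueField_eq_zero]
  have hflatV : Module.Flat V (LocalizedModule qV.asIdeal.primeCompl (V ⊗[R₀] B₀)) :=
    (InjFlatBC.flat_localized_congr qV.asIdeal.primeCompl
      (AlgebraTensorModule.rid B₀ (V ⊗[R₀] B₀) (V ⊗[R₀] B₀))).1
        (flat_stage (S₀ := B₀) B₀ θa qV ((InjFlatBC.flat_localized_congr _
          (AlgebraTensorModule.rid B₀ (A' ⊗[R₀] B₀) (A' ⊗[R₀] B₀))).2 (by rw [hqVθ]; exact h)))
  -- the point over the strictly local ring
  let qF : PrimeSpectrum (F ⊗[R₀] B₀) :=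
    qV.comap (stageMap (S₀ := B₀) (IsScalarTower.toAlgHom R₀ F V)).toRingHom
  have hFflat : Module.Flat F (LocalizedModule qF.asIdeal.primeCompl (F ⊗[R₀] B₀)) :=
    flat_of_normal_point (V := V) hχFinj B₀ qF
      (Ideal.ext fun x => by
        show algebraMap V (V ⊗[R₀] B₀) (χF x) ∈ qV.asIdeal ↔ x ∈ maximalIdeal F
        rw [← hχFloc, ← hmV]
        rfl)
      qV rfl hmV hflatV
  let ρ : R →ₐ[R₀] F := IsScalarTower.toAlgHom R₀ R F
  have hρflat : ρ.toRingHom.Flat := by
    show (algebraMap R F).Flat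
    rw [RingHom.flat_algebraMap_iff]
    exact IsLocalization.flat F n.primeCompl
  let p₀ : PrimeSpectrum (R ⊗[R₀] B₀) := qF.comap (stageMap (S₀ := B₀) ρ).toRingHom
  have hp₀flat := FlatValuative.flat_descend B₀ ρ hρflat qF hFflat
  have hp₀q : p₀.comap (stageMap (S₀ := B₀) (IsScalarTower.toAlgHom R₀ A R)).toRingHom = q := by
    rw [← hq', ← hqVθ]
    refine PrimeSpectrum.ext (Ideal.ext fun z => ?_)
    show stageMap (S₀ := B₀) (IsScalarTower.toAlgHom R₀ F V) (stageMap (S₀ := B₀) ρ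
        (stageMap (S₀ := B₀) (IsScalarTower.toAlgHom R₀ A R) z)) ∈ qV.asIdeal ↔
      stageMap (S₀ := B₀) θa (stageMap (S₀ := B₀) (IsScalarTower.toAlgHom R₀ A A') z) ∈ qV.asIdeal
    have : stageMap (S₀ := B₀) (IsScalarTower.toAlgHom R₀ F V) (stageMap (S₀ := B₀) ρ
        (stageMap (S₀ := B₀) (IsScalarTower.toAlgHom R₀ A R) z)) =
        stageMap (S₀ := B₀) θa (stageMap (S₀ := B₀) (IsScalarTower.toAlgHom R₀ A A') z) := by
      induction z using TensorProduct.induction_on with
      | zero => simp only [map_zero]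
      | tmul a b => exact congrArg (· ⊗ₜ[R₀] b) ((hχF _).trans (hχA a))
      | add a b ha hb => simp only [map_add, ha, hb]
    rw [this]
  -- all points over `q` are conjugate
  refine FlatIntegralInj.flat_of_integral_injective (R₀ := R₀) (A' := R) hinjR B₀ q fun q₁ hq₁ => ?_
  let τ := stageMap (S₀ := B₀) (IsScalarTower.toAlgHom R₀ A R)
  let g₁ := Ideal.ResidueField.map q.asIdeal q₁.asIdeal τ.toRingHom
    (congrArg PrimeSpectrum.asIdeal hq₁).symm
  let g₀ := Ideal.ResidueField.map q.asIdeal p₀.asIdeal τ.toRingHom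
    (congrArg PrimeSpectrum.asIdeal hp₀q).symm
  obtain ⟨Ω', _, i₁, i₀, hi⟩ := exists_common_field g₁ g₀
  let h₁ : R ⊗[R₀] B₀ →+* Ω' := i₁.comp (algebraMap _ _)
  let h₀ : R ⊗[R₀] B₀ →+* Ω' := i₀.comp (algebraMap _ _)
  have hτ : ∀ z, h₁ (τ z) = h₀ (τ z) := fun z => by
    have e1 := RingHom.congr_fun hi (algebraMap _ _ z)
    simp only [RingHom.comp_apply, g₁, g₀, Ideal.ResidueField.map_algebraMap] at e1
    exact e1
  let η₁ : R →+* Ω' := h₁.comp (algebraMap R (R ⊗[R₀] B₀))
  let η₀ : R →+* Ω' := h₀.comp (algebraMap R (R ⊗[R₀] B₀))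
  have hηA : ∀ a : A, η₁ (algebraMap A R a) = η₀ (algebraMap A R a) := fun a => hτ (a ⊗ₜ 1)
  have hker : ∀ (η : R →+* Ω'), (∀ a ∈ maximalIdeal A, η (algebraMap A R a) = 0) →
      ∀ x : A₁, ¬ IsUnit x → η (algebraMap A₁ R x) = 0 := by
    intro η hη x hx
    let I := RingHom.ker (η.comp (algebraMap A₁ R))
    haveI : I.IsPrime := RingHom.ker_isPrime _
    have e : I.comap (algebraMap A A₁) = maximalIdeal A :=
      ((maximalIdeal.isMaximal A).eq_of_le Ideal.IsPrime.ne_top' fun a ha => hη a ha).symm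
    have hI : I.IsMaximal := Ideal.isMaximal_of_isIntegral_of_isMaximal_comap (R := A) I (by
      rw [e]; exact maximalIdeal.isMaximal A)
    have := eq_maximalIdeal hI
    exact (this.ge ((IsLocalRing.mem_maximalIdeal x).2 hx) : x ∈ I)
  have hm₁ : ∀ a ∈ maximalIdeal A, η₁ (algebraMap A R a) = 0 := fun a ha => by
    show i₁ (algebraMap _ _ (τ (algebraMap A (A ⊗[R₀] B₀) a))) = 0
    have : τ (algebraMap A (A ⊗[R₀] B₀) a) ∈ q₁.asIdeal := by
      have h2 : algebraMap A (A ⊗[R₀] B₀) a ∈ q.asIdeal := hq.ge ha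
      rw [← hq₁] at h2
      exact h2
    rw [Ideal.algebraMap_residueField_eq_zero.2 this, map_zero]
  have hA₁ := hpi Ω' (η₁.comp (algebraMap A₁ R)) (η₀.comp (algebraMap A₁ R)) hηA
    (hker η₁ hm₁) (hker η₀ fun a ha => (hηA a).symm.trans (hm₁ a ha))
  obtain ⟨σ, hσ⟩ := exists_gal (K := K) (Ks := Ks) η₁ η₀ (fun a => RingHom.congr_fun hA₁ a)
  let σe : R ≃ₐ[A₁] R := galMap σ
  have hσ₁ : ∀ x : R, η₁ x = η₀ (σe.symm x) := fun x => by
    rw [hσ]
    exact congrArg η₁ (σe.apply_symm_apply x).symm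
  let σa : R →ₐ[R₀] R := { σe.toAlgHom.toRingHom with commutes' := fun r => σe.commutes (algebraMap A A₁ (algebraMap R₀ A r)) }
  have hσh : ∀ z, h₁ (stageMap (S₀ := B₀) σa z) = h₀ z := by
    intro z
    induction z using TensorProduct.induction_on with
    | zero => simp only [map_zero]
    | tmul a b =>
      have e1 : stageMap (S₀ := B₀) σa (a ⊗ₜ[R₀] b) = σe a ⊗ₜ[R₀] b := rfl
      have e2 : ∀ (h : R ⊗[R₀] B₀ →+* Ω') (x : R), h (x ⊗ₜ b) = h (x ⊗ₜ 1) * h (1 ⊗ₜ b) := fun h x => by
        rw [← map_mul, Algebra.TensorProduct.tmul_mul_tmul, mul_one, one_mul]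
      rw [e1, e2, e2 h₀]
      congr 1
      · exact (hσ a).symm
      · have e3 : τ ((1 : A) ⊗ₜ[R₀] b) = (1 : R) ⊗ₜ[R₀] b := by simp [τ, stageMap]
        rw [← e3]
        exact hτ _
    | add a b ha hb => simp only [map_add, ha, hb]
  have hq₀ : q₁.comap (stageMap (S₀ := B₀) σa).toRingHom = p₀ :=
    PrimeSpectrum.ext (Ideal.ext fun z => by
      show stageMap (S₀ := B₀) σa z ∈ q₁.asIdeal ↔ z ∈ p₀.asIdeal
      rw [← Ideal.algebraMap_residueField_eq_zero, ← map_eq_zero i₁,
        ← Ideal.algebraMap_residueField_eq_zero (I := p₀.asIdeal), ← map_eq_zero i₀]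
      show h₁ _ = 0 ↔ h₀ z = 0
      rw [hσh])
  exact (InjFlatBC.flat_localized_congr q₁.asIdeal.primeCompl
    (AlgebraTensorModule.rid B₀ (R ⊗[R₀] B₀) (R ⊗[R₀] B₀))).1
      (flat_stage (S₀ := B₀) B₀ σa q₁ ((InjFlatBC.flat_localized_congr _
        (AlgebraTensorModule.rid B₀ (R ⊗[R₀] B₀) (R ⊗[R₀] B₀))).2 (by rw [hq₀]; exact hp₀flat)))

set_option maxHeartbeats 1600000 in
/-- Flatness over a geometrically unibranch local domain is detected at one point. -/
theorem flat_of_point {R₀ : Type u} [CommRing R₀] [Algebra.FiniteType ℤ R₀] (B₀ : Type u) [CommRing B₀]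
    [Algebra R₀ B₀] [Algebra.FinitePresentation R₀ B₀]
    {A A' : Type u} [CommRing A] [IsDomain A] [IsLocalRing A] [CommRing A'] [IsLocalRing A']
    [Algebra R₀ A] [Algebra R₀ A'] [Algebra A A'] [IsScalarTower R₀ A A'] [IsLocalHom (algebraMap A A')]
    (hloc : IsLocalRing (integralClosure A (FractionRing A)))
    (hpi : ∀ (Ω : Type u) [Field Ω] (χ₁ χ₂ : integralClosure A (FractionRing A) →+* Ω),
      (∀ a : A, χ₁ (algebraMap A _ a) = χ₂ (algebraMap A _ a)) →
      (∀ x, ¬ IsUnit x → χ₁ x = 0) → (∀ x, ¬ IsUnit x → χ₂ x = 0) → χ₁ = χ₂)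
    (hinj : Function.Injective (algebraMap A A')) (q : PrimeSpectrum (A ⊗[R₀] B₀))
    (hq : q.asIdeal.comap (algebraMap A (A ⊗[R₀] B₀)) = maximalIdeal A)
    (q' : PrimeSpectrum (A' ⊗[R₀] B₀))
    (hq' : q'.comap (stageMap (S₀ := B₀) (IsScalarTower.toAlgHom R₀ A A')).toRingHom = q)
    (hm' : q'.asIdeal.comap (algebraMap A' (A' ⊗[R₀] B₀)) = maximalIdeal A')
    (h : Module.Flat A' (LocalizedModule q'.asIdeal.primeCompl (A' ⊗[R₀] B₀))) :
    Module.Flat A (LocalizedModule q.asIdeal.primeCompl (A ⊗[R₀] B₀)) := by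
  classical
  haveI : IsNoetherianRing R₀ := Algebra.FiniteType.isNoetherianRing ℤ R₀
  let K := FractionRing A
  let A₁ := integralClosure A K
  haveI : IsLocalRing A₁ := hloc
  haveI : IsIntegrallyClosed A₁ := integralClosure.isIntegrallyClosedOfFiniteExtension K
  haveI : IsFractionRing A₁ K := integralClosure.isFractionRing_of_finite_extension K K
  -- a valuation ring with algebraically closed fractions
  obtain ⟨P, hP, hPA⟩ := Ideal.exists_comap_eq_of_mem_minimalPrimes (f := algebraMap A A')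
    (I := (⊥ : Ideal A')) ⊥ (by
      rw [Ideal.comap_bot_of_injective _ hinj]
      exact ⟨⟨Ideal.isPrime_bot, le_rfl⟩, fun _ _ _ => bot_le⟩)
  haveI : P.IsPrime := hP
  obtain ⟨Lb, _, _, g, hg⟩ : ∃ (Lb : Type u) (_ : Field Lb) (_ : IsAlgClosed Lb) (g : A' →+* Lb),
      ∀ x, g x = 0 → x ∈ P :=
    ⟨AlgebraicClosure (FractionRing (A' ⧸ P)), inferInstance, inferInstance,
      ((algebraMap (FractionRing (A' ⧸ P)) (AlgebraicClosure (FractionRing (A' ⧸ P)))).comp
        (algebraMap (A' ⧸ P) (FractionRing (A' ⧸ P)))).comp (Ideal.Quotient.mk P), fun x hx =>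
      Ideal.Quotient.eq_zero_iff_mem.1 (IsFractionRing.injective (A' ⧸ P) (FractionRing (A' ⧸ P))
        (((algebraMap (FractionRing (A' ⧸ P)) (AlgebraicClosure (FractionRing (A' ⧸ P)))).injective
          (hx.trans (map_zero _).symm)).trans (map_zero _).symm))⟩
  obtain ⟨V, hVmem, hVloc⟩ := IsLocalRing.exists_factor_valuationRing g
  let θ : A' →+* V := g.codRestrict V.toSubring hVmem
  haveI : IsLocalHom θ := hVloc
  let f : A →+* Lb := g.comp (algebraMap A A')
  have hf : Function.Injective f := by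
    rw [injective_iff_map_eq_zero]
    intro a ha
    have : a ∈ P.comap (algebraMap A A') := hg _ ha
    rwa [hPA.2, Ideal.mem_bot] at this
  let ψK : K →+* Lb := IsFractionRing.lift hf
  obtain ⟨Ks, _, _, _, _, eK, heK⟩ : ∃ (Ks : Type u) (_ : Field Ks) (_ : Algebra K Ks) (_ : IsGalois K Ks)
      (_ : IsSepClosed Ks) (eK : Ks →+* Lb), ∀ x, eK (algebraMap K Ks x) = ψK x := by
    letI : Algebra K Lb := ψK.toAlgebra
    haveI : IsSepClosure K (separableClosure K Lb) := inferInstance
    exact ⟨separableClosure K Lb, inferInstance, inferInstance, inferInstance,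
      IsSepClosure.sep_closed K, (separableClosure K Lb).val.toRingHom, fun x => rfl⟩
  letI : Algebra Ks Lb := eK.toAlgebra
  haveI : IsScalarTower A₁ K Ks := IsScalarTower.of_algebraMap_eq (R := A₁) (S := K) (A := Ks) fun _ => rfl
  exact flat_of_point_aux B₀ (A₁ := A₁) (K := K) (Ks := Ks) V θ
    (fun a => by
      refine ((heK _).trans (IsFractionRing.lift_algebraMap hf a)).symm.trans ?_
      rw [IsScalarTower.algebraMap_apply A₁ K Ks]
      rfl)
    (fun a b hab => IsFractionRing.injective A K (congrArg Subtype.val hab)) hpi q hq q' hq' hm' h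

end Groth.Agent.H91.GeomFlat
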